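import Mathlib

/-!
Checked linear-algebra derivations for modules of small alternating groups.

Elements of `alternatingGroup (Fin n)` are coded as words in 3-cycles, each 3-cycle as one natural
number. A `Stage` certifies: if certain finite generating lists have no non-zero fixed vectors in
an exponent-`p` module, then neither does the list `stage.gens`.
-/

namespace Cfsg.Agent.Lib.FixLadder

open Equiv

/-- group element coded by a list of coded 3-cycles -/
abbrev W := List ℕ

abbrev Alt (n : ℕ) := alternatingGroup (Fin n)

def ok (n t : ℕ) : Bool :=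
  (t % 16).blt n && (t / 16 % 16).blt n && (t / 256).blt n &&
    !(t % 16 == t / 16 % 16) && !(t / 16 % 16 == t / 256) && !(t % 16 == t / 256)

def c3 (a b c i : ℕ) : ℕ :=
  bif a == i then b else bif b == i then c else bif c == i then a else i

def cyc (n t : ℕ) : Alt n :=
  if h : t % 16 < n ∧ t / 16 % 16 < n ∧ t / 256 < n ∧
      t % 16 ≠ t / 16 % 16 ∧ t / 16 % 16 ≠ t / 256 ∧ t % 16 ≠ t / 256 then
    ⟨swap ⟨t % 16, h.1⟩ ⟨t / 16 % 16, h.2.1⟩ * swap ⟨t / 16 % 16, h.2.1⟩ ⟨t / 256, h.2.2.1⟩, by
      rw [Equiv.Perm.mem_alternatingGroup, map_mul,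
        Equiv.Perm.sign_swap (Fin.ne_of_val_ne h.2.2.2.1),
        Equiv.Perm.sign_swap (Fin.ne_of_val_ne h.2.2.2.2.1)]
      rfl⟩
  else 1

def el (n : ℕ) : W → Alt n
  | [] => 1
  | t :: w => cyc n t * el n w

def im (n : ℕ) : W → ℕ → ℕ
  | [], i => i
  | t :: w, i => bif ok n t then c3 (t % 16) (t / 16 % 16) (t / 256) (im n w i) else im n w i

theorem el_append (n : ℕ) (a b : W) : el n (a ++ b) = el n a * el n b := by
  induction a with
  | nil => simp [el]
  | cons t a ih => simp [el, ih, mul_assoc]

theorem swap_swap_val {n a b c : ℕ} (i : Fin n) (hab : a ≠ b) (hbc : b ≠ c) (hac : a ≠ c)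
    (ha : a < n) (hb : b < n) (hc : c < n) :
    ((swap (⟨a, ha⟩ : Fin n) ⟨b, hb⟩) ((swap (⟨b, hb⟩ : Fin n) ⟨c, hc⟩) i) : ℕ) =
      c3 a b c i := by
  simp only [c3, swap_apply_def, Fin.ext_iff, Bool.cond_eq_ite, beq_iff_eq, apply_ite Fin.val]
  repeat' split_ifs
  all_goals (try dsimp only at *)
  all_goals omega

theorem cyc_apply (n t : ℕ) (i : Fin n) :
    (((cyc n t : Alt n) : Perm (Fin n)) i : ℕ) =
      bif ok n t then c3 (t % 16) (t / 16 % 16) (t / 256) i else i := by
  unfold cyc
  split_ifs with h
  · have hok : ok n t = true := by simp [ok, h]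
    rw [hok, cond_true]
    simp only [Perm.mul_apply]
    obtain ⟨ha, hb, hc, hab, hbc, hac⟩ := h
    exact swap_swap_val i hab hbc hac ha hb hc
  · have hok : ok n t = false := by
      rw [Bool.eq_false_iff]
      intro hh
      apply h
      simp [ok] at hh
      tauto
    rw [hok, cond_false]
    simp

theorem el_apply (n : ℕ) (w : W) (i : Fin n) :
    (((el n w : Alt n) : Perm (Fin n)) i : ℕ) = im n w i := by
  induction w generalizing i with
  | nil => simp [el, im]
  | cons t w ih =>
    simp only [el, im, Subgroup.coe_mul, Perm.mul_apply]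
    rw [cyc_apply, ih]

def sameAux (n : ℕ) (a b : W) : ℕ → Bool
  | 0 => true
  | k + 1 => (im n a k == im n b k) && sameAux n a b k

/-- do two words give the same permutation? -/
def same (n : ℕ) (a b : W) : Bool := sameAux n a b n

theorem sameAux_iff (n : ℕ) (a b : W) : ∀ k,
    sameAux n a b k = true ↔ ∀ i < k, im n a i = im n b i
  | 0 => by simp [sameAux]
  | k + 1 => by
    simp only [sameAux, Bool.and_eq_true, beq_iff_eq, sameAux_iff n a b k]
    constructor
    · rintro ⟨h0, h⟩ i hi
      rcases Nat.lt_succ_iff_lt_or_eq.1 hi with hi | rfl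
      · exact h i hi
      · exact h0
    · intro h
      exact ⟨h k (by omega), fun i hi => h i (by omega)⟩

theorem same_iff (n : ℕ) (a b : W) : same n a b = true ↔ el n a = el n b := by
  rw [same, sameAux_iff]
  constructor
  · intro h
    apply Subtype.ext
    ext i
    rw [el_apply, el_apply, h i i.2]
  · intro h i hi
    have h1 := el_apply n a ⟨i, hi⟩
    rw [h, el_apply] at h1
    exact h1.symm

/-- the `i`-th image stored in a permutation code -/
def dig (c i : ℕ) : ℕ := Nat.land (Nat.shiftRight c (4 * i)) 15

/-- the `i`-th permutation code of a packed table -/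
def slot (T i : ℕ) : ℕ := Nat.land (Nat.shiftRight T (64 * i)) 18446744073709551615

def hasCodeAux (n : ℕ) (w : W) (c : ℕ) : ℕ → Bool
  | 0 => true
  | k + 1 => (dig c k == im n w k) && hasCodeAux n w c k

/-- is `c` a code of the permutation of the word `w`? -/
def hasCode (n : ℕ) (w : W) (c : ℕ) : Bool := hasCodeAux n w c n

def cmpAux (cg cr ch cr' cx : ℕ) : ℕ → Bool
  | 0 => true
  | k + 1 => (dig cg (dig cr (dig ch k)) == dig cr' (dig cx k)) && cmpAux cg cr ch cr' cx k

def cmp (n cg cr ch cr' cx : ℕ) : Bool := cmpAux cg cr ch cr' cx n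

theorem dig_of_hasCode {n : ℕ} {w : W} {c : ℕ} (h : hasCode n w c = true) (i : Fin n) :
    dig c i = (((el n w : Alt n) : Perm (Fin n)) i : ℕ) := by
  rw [el_apply]
  have key : ∀ k, hasCodeAux n w c k = true → ∀ j < k, dig c j = im n w j := by
    intro k
    induction k with
    | zero => omega
    | succ k ih =>
      intro hk j hj
      simp only [hasCodeAux, Bool.and_eq_true, beq_iff_eq] at hk
      rcases Nat.lt_succ_iff_lt_or_eq.1 hj with hj | rfl
      · exact ih hk.2 j hj
      · exact hk.1
  exact key n h i i.2

theorem el_eq_of_cmp {n : ℕ} {g r h r' x : W} {cg cr ch cr' cx : ℕ} (hg : hasCode n g cg = true)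
    (hr : hasCode n r cr = true) (hh : hasCode n h ch = true) (hr' : hasCode n r' cr' = true)
    (hx : hasCode n x cx = true) (hc : cmp n cg cr ch cr' cx = true) :
    el n g * (el n r * el n h) = el n r' * el n x := by
  have key : ∀ k, cmpAux cg cr ch cr' cx k = true →
      ∀ j < k, dig cg (dig cr (dig ch j)) = dig cr' (dig cx j) := by
    intro k
    induction k with
    | zero => omega
    | succ k ih =>
      intro hk j hj
      simp only [cmpAux, Bool.and_eq_true, beq_iff_eq] at hk
      rcases Nat.lt_succ_iff_lt_or_eq.1 hj with hj | rfl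
      · exact ih hk.2 j hj
      · exact hk.1
  apply Subtype.ext
  ext i
  have h1 := key n hc i i.2
  simp only [dig_of_hasCode hh, dig_of_hasCode hr, dig_of_hasCode hg, dig_of_hasCode hx,
    dig_of_hasCode hr'] at h1
  simpa [Subgroup.coe_mul, Perm.mul_apply] using h1

inductive Tr (α : Type) where
  | nil : Tr α
  | node : α → Tr α → Tr α → Tr α

namespace Tr

def get {α : Type} : Tr α → α → ℕ → α
  | .nil, d, _ => d
  | .node a l r, d, i =>
    bif i == 0 then a
    else bif (i - 1) % 2 == 0 then l.get d ((i - 1) / 2) else r.get d ((i - 1) / 2)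

def zero {α : Type} : Tr α → Tr ℕ
  | .nil => .nil
  | .node _ l r => .node 0 l.zero r.zero

def add : Tr ℕ → ℕ → ℕ → Option (Tr ℕ)
  | .nil, _, _ => none
  | .node a l r, i, c =>
    bif i == 0 then some (.node (a + c) l r)
    else bif (i - 1) % 2 == 0 then (l.add ((i - 1) / 2) c).map (fun t => .node a t r)
    else (r.add ((i - 1) / 2) c).map (fun t => .node a l t)

def allDvd (p : ℕ) : Tr ℕ → Bool
  | .nil => true
  | .node a l r => (a % p == 0) && l.allDvd p && r.allDvd p

variable {M : Type*} [AddCommMonoid M]

def ev : Tr ℕ → (ℕ → M) → M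
  | .nil, _ => 0
  | .node a l r, f => a • f 0 + (l.ev (fun i => f (2 * i + 1)) + r.ev (fun i => f (2 * i + 2)))

theorem ev_zero {α : Type} (t : Tr α) (f : ℕ → M) : t.zero.ev f = 0 := by
  induction t generalizing f with
  | nil => rfl
  | node a l r hl hr => simp [zero, ev, hl, hr]

theorem ev_add {t t' : Tr ℕ} {i c : ℕ} (f : ℕ → M) (h : t.add i c = some t') :
    t'.ev f = t.ev f + c • f i := by
  induction t generalizing t' i f with
  | nil => simp [add] at h
  | node a l r hl hr =>
    rw [add] at h
    rcases Nat.eq_zero_or_pos i with rfl | hi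
    · simp only [beq_self_eq_true, cond_true, Option.some.injEq] at h
      subst h
      simp [ev, add_smul]
      abel
    · have h0 : (i == 0) = false := by simp; omega
      rw [h0, cond_false] at h
      by_cases h2 : (i - 1) % 2 = 0
      · simp only [h2, beq_self_eq_true, cond_true, Option.map_eq_some_iff] at h
        obtain ⟨u, hu, rfl⟩ := h
        simp only [ev]
        rw [hl (fun i => f (2 * i + 1)) hu]
        have : 2 * ((i - 1) / 2) + 1 = i := by omega
        simp only [this]
        abel
      · have h3 : ((i - 1) % 2 == 0) = false := by simp [h2]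
        rw [h3, cond_false, Option.map_eq_some_iff] at h
        obtain ⟨u, hu, rfl⟩ := h
        simp only [ev]
        rw [hr (fun i => f (2 * i + 2)) hu]
        have : 2 * ((i - 1) / 2) + 2 = i := by omega
        simp only [this]
        abel

theorem ev_allDvd {p : ℕ} {t : Tr ℕ} (hp : ∀ m : M, p • m = 0) (h : t.allDvd p = true)
    (f : ℕ → M) : t.ev f = 0 := by
  induction t generalizing f with
  | nil => rfl
  | node a l r hl hr =>
    simp only [allDvd, Bool.and_eq_true, beq_iff_eq] at h
    obtain ⟨⟨ha, hl'⟩, hr'⟩ := h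
    rw [ev, hl hl', hr hr', add_zero, add_zero]
    obtain ⟨k, rfl⟩ := Nat.dvd_of_mod_eq_zero ha
    rw [mul_comm, mul_smul, hp, smul_zero]

end Tr

/-- add `c * d` at the listed positions -/
def addList : Option (Tr ℕ) → ℕ → List (ℕ × ℕ) → Option (Tr ℕ)
  | o, _, [] => o
  | o, d, (c, i) :: ts => addList (o.bind fun t => t.add i (d * c)) d ts

/-- value of a formal combination -/
def val {M : Type*} [AddCommMonoid M] (f : ℕ → M) : List (ℕ × ℕ) → M
  | [] => 0
  | (c, i) :: ts => c • f i + val f ts

theorem addList_none (d : ℕ) : ∀ ts, addList none d ts = none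
  | [] => rfl
  | (_, _) :: ts => by simp [addList, addList_none d ts]

theorem ev_addList {M : Type*} [AddCommMonoid M] {d : ℕ} (f : ℕ → M) :
    ∀ {ts : List (ℕ × ℕ)} {t t' : Tr ℕ}, addList (some t) d ts = some t' →
      t'.ev f = t.ev f + d • val f ts
  | [], t, t', h => by
    simp [addList] at h
    subst h
    simp [val]
  | (c, i) :: ts, t, t', h => by
    simp only [addList, Option.bind_some] at h
    cases hadd : t.add i (d * c) with
    | none => rw [hadd, addList_none] at h; cases h
    | some u =>
      rw [hadd] at h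
      rw [ev_addList f h, Tr.ev_add f hadd, val, smul_add, mul_smul, add_assoc]

/-- an earlier relation `j`, translated on the left by `g` and on the right by normalizer `h`;
`al` lists the new positions and right factors -/
structure Use where
  c : ℕ
  g : W
  gc : ℕ
  j : ℕ
  h : ℕ
  al : List (ℕ × ℕ)

/-- a proof that a combination is fixed by a generator (`al` describes its translate) -/
structure Fix where
  gc : ℕ
  ec : ℕ
  al : List (ℕ × ℕ)
  uses : List Use

/-- a relation: either its translates differ from it by earlier relations for every element of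
a list in `facts` (`gs`), or (`gs = []`) it is itself a combination of earlier relations -/
structure Step where
  terms : List (ℕ × ℕ)
  gs : List W
  fix : List Fix

structure Stage where
  n : ℕ
  p : ℕ
  gens : List W
  facts : List (List W)
  reps : Tr W
  elts : Tr W
  chain : List (ℕ × ℕ)
  nrms : Tr W
  nnrm : ℕ
  nfix : List (List ℕ)
  terms : Tr (List (ℕ × ℕ))
  steps : List Step
  nrep : ℕ
  rc : ℕ
  xc : ℕ
  hc : ℕ

namespace Stage

variable (S : Stage)

def rep (i : ℕ) : W := S.reps.get [] i

def elt (i : ℕ) : W := S.elts.get [] i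

def nrm (i : ℕ) : W := S.nrms.get [] i

def tm (i : ℕ) : List (ℕ × ℕ) := S.terms.get [] i

/-- element `k+1` of `elts` is a generator times an earlier one -/
def chainOk : ℕ → List (ℕ × ℕ) → Bool
  | _, [] => true
  | k, (a, j) :: cs => a.blt S.gens.length && j.ble k &&
      same S.n (S.elt (k + 1)) (S.gens.getD a [] ++ S.elt j) && chainOk (k + 1) cs

def nrmOne (m : ℕ) : List W → List ℕ → Bool
  | [], _ => true
  | _ :: _, [] => false
  | x :: xs, k :: ks => k.ble S.chain.length &&
      same S.n (x ++ S.nrm m) (S.nrm m ++ S.elt k) && nrmOne m xs ks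

def nrmOk : ℕ → List (List ℕ) → Bool
  | m, [] => m == S.nnrm
  | m, ks :: rest => S.nrmOne m S.gens ks && nrmOk (m + 1) rest

def tableAux (f : ℕ → W) (T : ℕ) : ℕ → Bool
  | 0 => true
  | k + 1 => hasCode S.n (f k) (slot T k) && tableAux f T k

/-- the packed tables hold the codes of the listed words -/
def tablesOk : Bool :=
  S.tableAux S.rep S.rc S.nrep && S.tableAux S.elt S.xc (S.chain.length + 1) &&
    S.tableAux S.nrm S.hc S.nnrm

/-- translate a combination -/
def move (g h : ℕ) : List (ℕ × ℕ) → List (ℕ × ℕ) → Option (List (ℕ × ℕ))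
  | [], _ => some []
  | _ :: _, [] => none
  | (c, i) :: ts, (i', x) :: al =>
    bif x.ble S.chain.length && i.blt S.nrep && i'.blt S.nrep &&
        cmp S.n g (slot S.rc i) h (slot S.rc i') (slot S.xc x) then
      (move g h ts al).map ((c, i') :: ·)
    else none

def addUses (k : ℕ) : Option (Tr ℕ) → List Use → Option (Tr ℕ)
  | o, [] => o
  | o, u :: us =>
    bif u.j.blt k && u.h.blt S.nnrm && hasCode S.n u.g u.gc then
      addUses k ((S.move u.gc (slot S.hc u.h) (S.tm u.j) u.al).bind fun ts => addList o u.c ts) us
    else none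

def zeroOk : Option (Tr ℕ) → Bool
  | none => false
  | some t => t.allDvd S.p

def combOk (k : ℕ) (ts : List (ℕ × ℕ)) (F : Fix) : Bool :=
  S.zeroOk (S.addUses k (addList (some S.reps.zero) 1 ts) F.uses)

def fixOk (k : ℕ) (ts : List (ℕ × ℕ)) (g : W) (F : Fix) : Bool :=
  hasCode S.n g F.gc && hasCode S.n [] F.ec &&
  S.zeroOk ((S.move F.gc F.ec ts F.al).bind fun ts' =>
    S.addUses k (addList (addList (some S.reps.zero) 1 ts') (S.p - 1) ts) F.uses)

def fixAll (k : ℕ) (ts : List (ℕ × ℕ)) : List W → List Fix → Bool
  | [], _ => true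
  | _ :: _, [] => false
  | g :: gs, F :: Fs => S.fixOk k ts g F && fixAll k ts gs Fs

def stepOk (k : ℕ) (s : Step) : Bool :=
  s.terms == S.tm k &&
    match s.gs, s.fix with
    | [], [F] => S.combOk k s.terms F
    | [], _ => false
    | gs, Fs => S.facts.contains gs && S.fixAll k s.terms gs Fs

def stepsOk : ℕ → List Step → Bool
  | k, [] => k.blt 1 == false && S.tm (k - 1) == [(1, 0)]
  | k, s :: ss => S.stepOk k s && stepsOk (k + 1) ss

def check : Bool :=
  same S.n (S.rep 0) [] && same S.n (S.elt 0) [] && S.chainOk 0 S.chain &&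
    S.nrmOk 0 S.nfix && S.tablesOk && S.p.blt 1 == false && S.stepsOk 0 S.steps

theorem stepsOk_cons {k : ℕ} {s : Step} {ss : List Step} (h : S.stepOk k s = true)
    (hs : S.stepsOk (k + 1) ss = true) : S.stepsOk k (s :: ss) = true := by
  simp [stepsOk, h, hs]

def frontOk : Bool :=
  same S.n (S.rep 0) [] && same S.n (S.elt 0) [] && S.chainOk 0 S.chain &&
    S.nrmOk 0 S.nfix && S.tablesOk && S.p.blt 1 == false

theorem check_of (h : S.frontOk = true) (hs : S.stepsOk 0 S.steps = true) : S.check = true := by
  simp only [frontOk] at h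
  simp only [check, h, hs, Bool.and_self]

end Stage

variable {n : ℕ} {M : Type*} [AddCommGroup M] [DistribMulAction (Alt n) M]

/-- the only vector fixed by all the listed elements is zero -/
def Kills (n : ℕ) (M : Type*) [AddCommGroup M] [DistribMulAction (Alt n) M] (gs : List W) : Prop :=
  ∀ v : M, (∀ g ∈ gs, el n g • v = v) → v = 0

theorem smul_val (g : Alt n) (f : ℕ → M) : ∀ ts, g • val f ts = val (fun i => g • f i) ts
  | [] => by simp [val]
  | (c, i) :: ts => by simp [val, smul_add, smul_comm g c, smul_val g f ts]

theorem check_sound (S : Stage) (hS : S.check = true) {M : Type*} [AddCommGroup M]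
    [DistribMulAction (Alt S.n) M] (hp : ∀ m : M, S.p • m = 0)
    (hfacts : ∀ gs ∈ S.facts, Kills S.n M gs) : Kills S.n M S.gens := by
  simp only [Stage.check, Bool.and_eq_true, beq_iff_eq] at hS
  obtain ⟨⟨⟨⟨⟨⟨h0, he0⟩, hch⟩, hnr⟩, htab⟩, hp1⟩, hst⟩ := hS
  have htables : ∀ (f : ℕ → W) T m, S.tableAux f T m = true →
      ∀ i < m, hasCode S.n (f i) (slot T i) = true := by
    intro f T m
    induction m with
    | zero => omega
    | succ m ih =>
      intro h i hi
      simp only [Stage.tableAux, Bool.and_eq_true] at h
      rcases Nat.lt_succ_iff_lt_or_eq.1 hi with hi | rfl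
      · exact ih h.2 i hi
      · exact h.1
  simp only [Stage.tablesOk, Bool.and_eq_true] at htab
  obtain ⟨⟨hrt, hxt⟩, hht⟩ := htab
  replace hp1 : 1 ≤ S.p := by
    by_contra h
    rw [show S.p = 0 by omega] at hp1
    exact absurd hp1 (by decide)
  set F : M → ℕ → M := fun v i => el S.n (S.rep i) • v with hF
  let Fixed : M → Prop := fun v => ∀ g ∈ S.gens, el S.n g • v = v
  have helts : ∀ v, Fixed v → ∀ x ≤ S.chain.length, el S.n (S.elt x) • v = v := by
    intro v hv
    have key : ∀ cs k, S.chainOk k cs = true → (∀ x ≤ k, el S.n (S.elt x) • v = v) →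
        ∀ x ≤ k + cs.length, el S.n (S.elt x) • v = v := by
      intro cs
      induction cs with
      | nil => intro k _ h x hx; exact h x (by simpa using hx)
      | cons c cs ih =>
        obtain ⟨a, j⟩ := c
        intro k hk h x hx
        simp only [Stage.chainOk, Bool.and_eq_true, Nat.blt_eq, Nat.ble_eq, same_iff] at hk
        obtain ⟨⟨⟨ha, hj⟩, hx1⟩, hrest⟩ := hk
        refine ih (k + 1) hrest ?_ x (by simp at hx ⊢; omega)
        intro y hy
        rcases Nat.lt_or_ge y (k + 1) with hy' | hy'
        · exact h y (by omega)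
        · obtain rfl : y = k + 1 := by omega
          rw [hx1, el_append, mul_smul, h j hj]
          apply hv
          rw [List.getD_eq_getElem _ _ ha]
          exact List.getElem_mem ha
    have := key S.chain 0 hch (by
      intro x hx
      obtain rfl : x = 0 := by omega
      rw [(same_iff _ _ _).1 he0]
      simp [el])
    simpa using this
  have hnrm : ∀ v, Fixed v → ∀ m < S.nnrm, Fixed (el S.n (S.nrm m) • v) := by
    intro v hv
    have one : ∀ m (xs : List W) ks, S.nrmOne m xs ks = true →
        ∀ x ∈ xs, el S.n x • el S.n (S.nrm m) • v = el S.n (S.nrm m) • v := by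
      intro m xs
      induction xs with
      | nil => simp
      | cons x xs ih =>
        intro ks h y hy
        cases ks with
        | nil => simp [Stage.nrmOne] at h
        | cons k ks =>
          simp only [Stage.nrmOne, Bool.and_eq_true, Nat.ble_eq, same_iff, el_append] at h
          obtain ⟨⟨hk, hx⟩, hrest⟩ := h
          rcases List.mem_cons.1 hy with rfl | hy
          · rw [← mul_smul, hx, mul_smul, helts v hv k hk]
          · exact ih ks hrest y hy
    have key : ∀ rest m0, S.nrmOk m0 rest = true → ∀ m, m0 ≤ m → m < S.nnrm →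
        ∀ x ∈ S.gens, el S.n x • el S.n (S.nrm m) • v = el S.n (S.nrm m) • v := by
      intro rest
      induction rest with
      | nil => intro m0 h m h1 h2; simp [Stage.nrmOk] at h; omega
      | cons ks rest ih =>
        intro m0 h m h1 h2
        simp only [Stage.nrmOk, Bool.and_eq_true] at h
        rcases eq_or_lt_of_le h1 with rfl | h1
        · exact one m0 _ ks h.1
        · exact ih (m0 + 1) h.2 m h1 h2
    exact fun m hm => key S.nfix 0 hnr m (Nat.zero_le m) hm
  have hmove : ∀ v, Fixed v → ∀ (g h : W) gc hc', hasCode S.n g gc = true →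
      hasCode S.n h hc' = true → ∀ ts al ts', S.move gc hc' ts al = some ts' →
      el S.n g • val (F (el S.n h • v)) ts = val (F v) ts' := by
    intro v hv g h gc hc' hgc hhc ts
    induction ts with
    | nil => intro al ts' hm; simp [Stage.move] at hm; subst hm; simp [val]
    | cons c ts ih =>
      obtain ⟨c, i⟩ := c
      intro al ts' hm
      cases al with
      | nil => simp [Stage.move] at hm
      | cons a al =>
        obtain ⟨i', x⟩ := a
        simp only [Stage.move] at hm
        by_cases hc : (x.ble S.chain.length && i.blt S.nrep && i'.blt S.nrep &&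
            cmp S.n gc (slot S.rc i) hc' (slot S.rc i') (slot S.xc x)) = true
        · rw [hc, cond_true, Option.map_eq_some_iff] at hm
          obtain ⟨us, hus, rfl⟩ := hm
          simp only [Bool.and_eq_true, Nat.ble_eq, Nat.blt_eq] at hc
          obtain ⟨⟨⟨hx, hi⟩, hi'⟩, hcm⟩ := hc
          have he := el_eq_of_cmp hgc (htables _ _ _ hrt i hi) hhc (htables _ _ _ hrt i' hi')
            (htables _ _ _ hxt x (by omega)) hcm
          rw [val, val, smul_add, ih al us hus, smul_comm (el S.n g) c]
          congr 2
          simp only [hF]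
          rw [← mul_smul, ← mul_smul, mul_assoc, he, mul_smul, helts v hv x hx]
        · rw [Bool.not_eq_true] at hc
          rw [hc] at hm
          simp at hm
  have huses : ∀ k, (∀ j < k, ∀ v, Fixed v → val (F v) (S.tm j) = 0) → ∀ v, Fixed v →
      ∀ us (o : Option (Tr ℕ)) t', S.addUses k o us = some t' →
        ∃ t, o = some t ∧ t'.ev (F v) = t.ev (F v) := by
    intro k hIH v hv us
    induction us with
    | nil => intro o t' h; exact ⟨t', h, rfl⟩
    | cons u us ih =>
      intro o t' h
      simp only [Stage.addUses] at h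
      by_cases hc : (u.j.blt k && u.h.blt S.nnrm && hasCode S.n u.g u.gc) = true
      · rw [hc, cond_true] at h
        obtain ⟨t1, ht1, hev⟩ := ih _ _ h
        rw [Option.bind_eq_some_iff] at ht1
        obtain ⟨ts, hts, hadd⟩ := ht1
        simp only [Bool.and_eq_true, Nat.blt_eq] at hc
        cases o with
        | none => rw [addList_none] at hadd; cases hadd
        | some t =>
          refine ⟨t, rfl, ?_⟩
          rw [hev, ev_addList (F v) hadd,
            ← hmove v hv _ _ _ _ hc.2 (htables _ _ _ hht u.h hc.1.2) _ _ _ hts,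
            hIH u.j hc.1.1 _ (hnrm v hv u.h hc.1.2)]
          simp
      · rw [Bool.not_eq_true] at hc
        rw [hc] at h
        simp at h
  have hzero : ∀ o, S.zeroOk o = true → ∃ t, o = some t ∧ ∀ f : ℕ → M, t.ev f = 0 := by
    intro o ho
    cases o with
    | none => simp [Stage.zeroOk] at ho
    | some t => exact ⟨t, rfl, Tr.ev_allDvd hp ho⟩
  have hstep : ∀ k s, (∀ j < k, ∀ v, Fixed v → val (F v) (S.tm j) = 0) →
      S.stepOk k s = true → ∀ v, Fixed v → val (F v) (S.tm k) = 0 := by
    intro k s hIH hs v hv
    simp only [Stage.stepOk, Bool.and_eq_true, beq_iff_eq] at hs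
    obtain ⟨hts, hm⟩ := hs
    rw [← hts]
    split at hm
    · obtain ⟨t, ht, htz⟩ := hzero _ hm
      obtain ⟨t1, ht1, hev⟩ := huses k hIH v hv _ _ _ ht
      rw [htz, ev_addList (F v) ht1, Tr.ev_zero, zero_add, one_smul] at hev
      exact hev.symm
    · simp at hm
    · simp only [Bool.and_eq_true, List.contains_iff_mem] at hm
      apply hfacts _ hm.1
      have key : ∀ (gs : List W) Fs, S.fixAll k s.terms gs Fs = true →
          ∀ g ∈ gs, el S.n g • val (F v) s.terms = val (F v) s.terms := by
        intro gs
        induction gs with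
        | nil => simp
        | cons g gs ih =>
          intro Fs h y hy
          cases Fs with
          | nil => simp [Stage.fixAll] at h
          | cons Fx Fs =>
            simp only [Stage.fixAll, Bool.and_eq_true] at h
            rcases List.mem_cons.1 hy with rfl | hy
            · simp only [Stage.fixOk, Bool.and_eq_true] at h
              obtain ⟨⟨⟨hgc, hec⟩, hz⟩, -⟩ := h
              obtain ⟨t, ht, htz⟩ := hzero _ hz
              rw [Option.bind_eq_some_iff] at ht
              obtain ⟨ts', hts', hadd⟩ := ht
              obtain ⟨t1, ht1, hev⟩ := huses k hIH v hv _ _ _ hadd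
              cases ht2 : addList (some S.reps.zero) 1 ts' with
              | none => rw [ht2, addList_none] at ht1; cases ht1
              | some t2 =>
                rw [ht2] at ht1
                rw [htz, ev_addList (F v) ht1, ev_addList (F v) ht2, Tr.ev_zero, zero_add,
                  one_smul, ← hmove v hv _ _ _ _ hgc hec _ _ _ hts'] at hev
                simp only [el, one_smul] at hev
                have h4 : (S.p - 1) • val (F v) s.terms + val (F v) s.terms = 0 := by
                  rw [← succ_nsmul, Nat.sub_add_cancel hp1, hp]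
                have h5 : val (F v) s.terms = -((S.p - 1) • val (F v) s.terms) :=
                  eq_neg_of_add_eq_zero_right h4
                rw [h5]
                rw [← h5]
                exact (eq_neg_of_add_eq_zero_left hev.symm).trans h5.symm
            · exact ih Fs h.2 y hy
      exact key _ _ hm.2
  have hall : ∀ ss k, S.stepsOk k ss = true →
      (∀ j < k, ∀ v, Fixed v → val (F v) (S.tm j) = 0) →
      ∀ v, Fixed v → val (F v) [(1, 0)] = 0 := by
    intro ss
    induction ss with
    | nil =>
      intro k h hIH v hv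
      simp only [Stage.stepsOk, Bool.and_eq_true, beq_iff_eq] at h
      have hk : 1 ≤ k := by
        by_contra hh
        rw [show k = 0 by omega] at h
        exact absurd h.1 (by decide)
      rw [← h.2]
      exact hIH (k - 1) (by omega) v hv
    | cons s ss ih =>
      intro k h hIH
      simp only [Stage.stepsOk, Bool.and_eq_true] at h
      refine ih (k + 1) h.2 ?_
      intro j hj
      rcases Nat.lt_succ_iff_lt_or_eq.1 hj with hj | rfl
      · exact hIH j hj
      · exact hstep j s hIH h.1
  intro v hv
  have hv0 := hall S.steps 0 hst (fun j hj => absurd hj (Nat.not_lt_zero j)) v hv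
  simpa [val, hF, (same_iff _ _ _).1 h0, el] using hv0

/-- every vector fixed by a nonsolvable subgroup is zero -/
def NoFix (n : ℕ) (M : Type*) [AddCommGroup M] [DistribMulAction (Alt n) M] : Prop :=
  ∀ S : Subgroup (Alt n), ¬ Group.IsSolvable S →
    ∀ v : M, (∀ g ∈ S, g • v = v) → v = 0

/-- product of generators with the given indices -/
def gword (gs : List W) : List ℕ → W
  | [] => []
  | a :: as => gs.getD a [] ++ gword gs as

/-- witness that generator number `k` is a commutator -/
structure Comm where
  x : List ℕ
  x' : List ℕ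
  y : List ℕ
  y' : List ℕ

def perfectAux (n : ℕ) (gs : List W) : List W → List Comm → Bool
  | [], _ => true
  | _ :: _, [] => false
  | g :: rest, C :: Cs =>
    same n (gword gs C.x ++ gword gs C.x') [] && same n (gword gs C.y ++ gword gs C.y') [] &&
      same n g (gword gs C.x ++ (gword gs C.y ++ (gword gs C.x' ++ gword gs C.y'))) &&
      perfectAux n gs rest Cs

def perfectOk (n : ℕ) (gs : List W) (Cs : List Comm) : Bool :=
  perfectAux n gs gs Cs && gs.any (fun g => !same n g [])

theorem gword_mem (n : ℕ) (gs : List W) {S : Subgroup (Alt n)} (h : ∀ g ∈ gs, el n g ∈ S) :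
    ∀ l, el n (gword gs l) ∈ S
  | [] => by simp [gword, el]
  | a :: as => by
    rw [gword, el_append]
    refine mul_mem ?_ (gword_mem n gs h as)
    rcases Nat.lt_or_ge a gs.length with ha | ha
    · rw [List.getD_eq_getElem _ _ ha]
      exact h _ (List.getElem_mem ha)
    · rw [List.getD_eq_default _ _ ha]
      simp [el]

theorem kills_of_perfect (hno : NoFix n M) {gs : List W} (Cs : List Comm)
    (h : perfectOk n gs Cs = true) : Kills n M gs := by
  simp only [perfectOk, Bool.and_eq_true, List.any_eq_true, Bool.not_eq_true'] at h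
  obtain ⟨haux, g0, hg0, hne⟩ := h
  set S : Subgroup (Alt n) := Subgroup.closure {x | ∃ g ∈ gs, el n g = x} with hSdef
  have hmem : ∀ g ∈ gs, el n g ∈ S := fun g hg => Subgroup.subset_closure ⟨g, hg, rfl⟩
  have hcomm : ∀ (rest : List W) Cs, perfectAux n gs rest Cs = true →
      ∀ g ∈ rest, el n g ∈ ⁅S, S⁆ := by
    intro rest
    induction rest with
    | nil => simp
    | cons g rest ih =>
      intro Cs h y hy
      cases Cs with
      | nil => simp [perfectAux] at h
      | cons C Cs =>
        simp only [perfectAux, Bool.and_eq_true, same_iff, el_append] at h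
        obtain ⟨⟨⟨hx, hy'⟩, hg⟩, hrest⟩ := h
        rcases List.mem_cons.1 hy with rfl | hy
        · have e1 : el n (gword gs C.x') = (el n (gword gs C.x))⁻¹ :=
            (eq_inv_of_mul_eq_one_right (by simpa [el] using hx))
          have e2 : el n (gword gs C.y') = (el n (gword gs C.y))⁻¹ :=
            (eq_inv_of_mul_eq_one_right (by simpa [el] using hy'))
          rw [hg, e1, e2, ← mul_assoc, ← mul_assoc]
          exact Subgroup.commutator_mem_commutator (gword_mem n gs hmem _) (gword_mem n gs hmem _)
        · exact ih Cs hrest y hy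
  have hperf : S ≤ ⁅S, S⁆ := by
    rw [hSdef, Subgroup.closure_le]
    rintro x ⟨g, hg, rfl⟩
    exact hcomm gs Cs haux g hg
  have hns : ¬ Group.IsSolvable S := by
    intro hs
    obtain ⟨k, hk⟩ := hs
    have hd : ∀ k, (derivedSeries S k).map S.subtype = S := by
      intro k
      induction k with
      | zero => simp [← MonoidHom.range_eq_map]
      | succ k ih =>
        rw [derivedSeries_succ, Subgroup.map_commutator, ih]
        exact le_antisymm (Subgroup.commutator_le_self S) hperf
    have h1 := hd k
    rw [hk, Subgroup.map_bot] at h1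
    have hg1 := hmem g0 hg0
    rw [← h1, Subgroup.mem_bot] at hg1
    have : same n g0 [] = true := (same_iff _ _ _).2 (by simpa [el] using hg1)
    rw [this] at hne
    cases hne
  intro v hv
  refine hno S hns v ?_
  intro g hg
  induction hg using Subgroup.closure_induction with
  | mem x hx => obtain ⟨g, hg, rfl⟩ := hx; exact hv g hg
  | one => exact one_smul _ v
  | mul a b _ _ ha hb => rw [mul_smul, hb, ha]
  | inv a _ ha => rw [inv_smul_eq_iff, ha]

end Cfsg.Agent.Lib.FixLadder
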