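import Cfsg.Agent.Lib.FixLadder.Basic

/-! Generated certificate (kernel-checked by `decide +kernel`). -/

namespace Cfsg.Agent.Lib.FixLadder

set_option maxRecDepth 100000
set_option maxHeartbeats 0

/-- certificate data -/
def fiveF0s0 : Step :=
  ⟨[(1,0),(1,1),(1,2),(1,3),(1,4)],[[528,1893],[528,1074,1893,2439]],[⟨654301212705,654820258320,[(0,7),(2,14),(3,0),(1,14),(4,65)],[]⟩,
   ⟨384523322145,654820258320,[(1,0),(2,33),(3,58),(4,0),(0,6)],[]⟩]⟩

/-- certificate data -/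
def fiveF0s1 : Step :=
  ⟨[(1,0),(1,5),(1,6),(1,3),(1,4)],[[528,1653],[528,1074,2165,2438]],[⟨654537142305,654820258320,[(0,23),(6,14),(3,0),(5,14),(4,105)],[]⟩,
   ⟨453210293025,654820258320,[(5,0),(6,36),(3,128),(4,4),(0,21)],[]⟩]⟩

/-- certificate data -/
def fiveF0s2 : Step :=
  ⟨[(4,0),(1,7)],[[528],[528,1074]],[⟨654820257825,654820258320,[(0,1),(7,1)],[]⟩,
   ⟨654820000545,654820258320,[(8,0),(1,0)],[⟨4,[288,1073,1893,2439],384523321650,0,0,[(1,1),(9,94),(10,3),(11,34),(0,20)]⟩,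
    ⟨1,[1925,1942],375432426000,1,0,[(7,14),(8,40),(11,40),(9,14),(10,13)]⟩]⟩]⟩

/-- certificate data -/
def fiveF0s3 : Step :=
  ⟨[(1,0)],[[1893],[1893,2439]],[⟨654301213200,654820258320,[(0,3)],[]⟩,
   ⟨384523579920,654820258320,[(7,0)],[⟨4,[],654820258320,2,0,[(0,0),(7,0)]⟩]⟩]⟩

/-- certificate data -/
def fiveF0s4 : Step :=
  ⟨[(1,0)],[],[⟨0,0,[],[⟨4,[],654820258320,3,0,[(0,0)]⟩]⟩]⟩

/-- certificate data -/
def fiveF0 : Stage where
  n := 10
  p := 5
  gens := [[528],[801],[1893],[2166]]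
  facts := [[[528,1893],[528,1074,1893,2439]],[[528,1653],[528,1074,2165,2438]],[[528],[528,1074]],[[1893],[1893,2439]]]
  reps := .node [] (.node [528,1074,1893,2439] (.node [1074,1669,1942] (.node [1893,2439] (.nil) (.nil)) (.node [800,1073,1893,2199] (.nil) (.nil))) (.node [528,1074,2165,2438] (.node [1074,1669,2198] (.nil) (.nil)) (.nil))) (.node [800,1073,1669,2198] (.node [528,834,2197,1926] (.node [528,1074] (.nil) (.nil)) (.nil)) (.node [800,1073,1925,1942] (.node [528,834,1669,1942] (.nil) (.nil)) (.nil)))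
  elts := .node [] (.node [528] (.node [1893] (.node [528,1893] (.node [1893,2166] (.node [561,1893] (.node [528,801,1926] (.node [800,2165] (.nil) (.nil)) (.nil)) (.node [800,1653,1926] (.nil) (.nil))) (.node [304,801] (.node [288,1669] (.node [304,801,1669,2166] (.nil) (.nil)) (.nil)) (.node [304,1669] (.nil) (.nil)))) (.node [528,1653] (.node [2165] (.node [801,1925] (.node [304,1669,2166] (.nil) (.nil)) (.nil)) (.node [784,1653,1926] (.nil) (.nil))) (.node [528,1925] (.node [560,1893,2166] (.nil) (.nil)) (.node [304,801,1926] (.nil) (.nil))))) (.node [801,1893] (.node [288,2166] (.node [801,1893,2166] (.node [561,1653,1926] (.node [784,1925] (.nil) (.nil)) (.nil)) (.node [528,801,1925] (.nil) (.nil))) (.node [288,561,1653,1926] (.node [304,801,1893] (.nil) (.nil)) (.node [288,1669,2166] (.nil) (.nil)))) (.node [800] (.node [288,1653] (.node [304,1653] (.node [304,801,2149] (.nil) (.nil)) (.nil)) (.node [561,1925] (.nil) (.nil)))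 (.node [800,2166] (.node [288,561,2165] (.nil) (.nil)) (.node [560,2149] (.nil) (.nil)))))) (.node [288] (.node [528,801] (.node [304] (.node [801,1653] (.node [784,2166] (.node [528,801,1669,2166] (.nil) (.nil)) (.nil)) (.node [800,1926] (.nil) (.nil))) (.node [560,2166] (.node [288,2165] (.nil) (.nil)) (.node [304,2165] (.nil) (.nil)))) (.node [528,1893,2166] (.node [304,1893] (.node [801,2149] (.node [304,801,1925] (.nil) (.nil)) (.nil)) (.node [784,1926] (.nil) (.nil))) (.node [528,2149] (.node [288,561,1669] (.nil) (.nil)) (.node [560,1925] (.nil) (.nil))))) (.node [1653] (.node [288,561,1893] (.node [1669] (.node [561,1926] (.node [784,2149] (.nil) (.nil)) (.nil)) (.node [528,801,2149] (.nil) (.nil))) (.node [288,561,1926] (.node [560,1653] (.nil) (.nil)) (.node [304,801,1653,1926] (.nil) (.nil)))) (.node [528,801,2166] (.node [288,1893,2166] (.node [304,1893,2166] (.node [800,1669,2166] (.nil) (.nil)) (.nil)) (.node [561,2149]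 (.nil) (.nil))) (.node [528,801,1653,1926] (.node [528,1669,2166] (.nil) (.nil)) (.node [800,1669] (.nil) (.nil))))))) (.node [801] (.node [2166] (.node [528,2166] (.node [1926] (.node [561,2166] (.node [784,1893] (.node [800,2149] (.nil) (.nil)) (.nil)) (.node [800,1893,2166] (.nil) (.nil))) (.node [560,1893] (.node [288,1925] (.nil) (.nil)) (.node [304,1925] (.nil) (.nil)))) (.node [528,1653,1926] (.node [2149] (.node [801,2165] (.node [304,801,1669] (.nil) (.nil)) (.nil)) (.node [784,1893,2166] (.nil) (.nil))) (.node [528,2165] (.node [560,1926] (.nil) (.nil)) (.node [560,1669] (.nil) (.nil))))) (.node [801,2166] (.node [560] (.node [801,1926] (.node [561,1893,2166] (.node [784,2165] (.nil) (.nil)) (.nil)) (.node [528,801,2165] (.nil) (.nil))) (.node [288,561,1893,2166] (.node [304,801,2166] (.nil) (.nil)) (.node [304,801,1653] (.nil) (.nil)))) (.node [528,801,1893] (.node [288,1653,1926] (.node [304,1653,1926] (.node [560,1669,2166]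 (.nil) (.nil)) (.nil)) (.node [561,2165] (.nil) (.nil))) (.node [528,801,1653] (.node [288,561,2149] (.nil) (.nil)) (.node [288,561,1669,2166] (.nil) (.nil)))))) (.node [288,561] (.node [561] (.node [288,1893] (.node [801,1653,1926] (.node [561,1653] (.node [784,1669] (.nil) (.nil)) (.nil)) (.node [528,801,1669] (.nil) (.nil))) (.node [288,561,1653] (.node [288,2149] (.nil) (.nil)) (.node [304,2149] (.nil) (.nil)))) (.node [528,1926] (.node [304,2166] (.node [1669,2166] (.node [304,801,2165] (.nil) (.nil)) (.nil)) (.node [561,1669] (.nil) (.nil))) (.node [800,1893] (.node [288,561,1925] (.nil) (.nil)) (.node [560,2165] (.nil) (.nil))))) (.node [1653,1926] (.node [288,561,2166] (.node [1925] (.node [801,1669] (.node [561,1669,2166] (.nil) (.nil)) (.nil)) (.node [784,1653] (.nil) (.nil))) (.node [528,1669] (.node [560,1653,1926] (.nil) (.nil)) (.node [304,801,1893,2166] (.nil) (.nil)))) (.node [784] (.node [288,1926] (.node [304,1926]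 (.node [784,1669,2166] (.nil) (.nil)) (.nil)) (.node [801,1669,2166] (.nil) (.nil))) (.node [528,801,1893,2166] (.node [800,1653] (.nil) (.nil)) (.node [800,1925] (.nil) (.nil)))))))
  chain := [(0,0),(1,0),(2,0),(3,0),(0,1),(1,1),(2,1),(3,1),(0,2),(1,2),(2,2),(3,2),(2,3),(3,3),(2,4),(3,4),(1,5),(2,5),(3,5),(1,6),(2,6),(3,6),(2,7),(3,7),(2,8),(3,8),(0,9),(2,9),(3,9),(0,10),(2,10),(3,10),(2,11),(3,11),(2,12),(3,12),(3,13),(3,14),(2,15),(2,16),(2,17),(3,17),(2,18),(3,18),(2,19),(3,19),(0,20),(2,20),(3,20),(2,21),(3,21),(2,22),(3,22),(3,23),(3,24),(2,25),(2,26),(2,27),(3,27),(2,28),(3,28),(2,29),(3,29),(2,30),(3,30),(2,31),(3,31),(2,32),(3,32),(3,33),(3,34),(2,35),(2,36),(2,38),(2,41),(3,41),(2,42),(3,42),(3,43),(3,44),(2,45),(2,46),(2,47),(3,47),(2,48),(3,48),(2,49),(3,49),(3,50),(3,51),(2,52),(2,53),(2,55),(2,58),(3,58),(2,59),(3,59),(3,60),(3,61),(2,62),(2,63),(2,64),(3,64),(2,65),(3,65),(3,66),(3,67),(2,68),(2,69),(2,71),(3,75),(3,76),(2,77),(2,78),(2,80),(2,83),(3,83),(2,84),(3,84),(3,85),(3,86),(2,87),(2,88),(2,90),(3,94),(3,95),(2,96),(2,97),(2,99),(3,102),(3,103),(2,104),(2,105),(2,107),(2,112),(3,116),(3,117),(2,118),(2,119),(2,121),(2,126),(2,131),(2,137)]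
  nrms := .node [] (.nil) (.nil)
  nnrm := 1
  nfix := [[1,2,3,4]]
  terms := .node [(1,0),(1,1),(1,2),(1,3),(1,4)] (.node [(1,0),(1,5),(1,6),(1,3),(1,4)] (.node [(1,0)] (.nil) (.nil)) (.nil)) (.node [(4,0),(1,7)] (.node [(1,0)] (.nil) (.nil)) (.nil))
  steps := [fiveF0s0,fiveF0s1,fiveF0s2,fiveF0s3,fiveF0s4]
  nrep := 12
  rc := 0x859761430200000076598304210000006579824310000000987650432100000059876432100000005769814302000000698570432100000087659304210000007659824310000000657981430200000059876043210000009876543210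
  xc := 0x95678401230000009567840231000000956784031200000095678420130000009578640123000000958674012300000097568401230000009675840123000000956784120300000095678421300000009578640231000000958674023100000097568402310000009675840231000000956784230100000095786403120000009586740312000000975684031200000096758403120000009567841032000000957864201300000095867420130000009756842013000000967584201300000097685401230000009785640123000000965874012300000098657401230000009567843102000000957864120300000095867412030000009756841203000000967584120300000095678413200000009578642130000000958674213000000097568421300000009675842130000000976854023100000097856402310000009658740231000000986574023100000095786423010000009586742301000000975684230100000096758423010000009768540312000000978564031200000096587403120000009865740312000000956784302100000095786410320000009586741032000000975684103200000096758410320000009768542013000000978564201300000096587420130000009865742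0130000009687540123000000985764012300000095786431020000009586743102000000975684310200000096758431020000009768541203000000978564120300000096587412030000009865741203000000956784321000000095786413200000009586741320000000975684132000000096758413200000009768542130000000978564213000000096587421300000009865742130000000968754023100000098576402310000009768542301000000978564230100000096587423010000009865742301000000968754031200000098576403120000009578643021000000958674302100000097568430210000009675843021000000976854103200000097856410320000009658741032000000986574103200000096875420130000009857642013000000987654012300000097685431020000009785643102000000965874310200000098657431020000009687541203000000985764120300000095786432100000009586743210000000975684321000000096758432100000009768541320000000978564132000000096587413200000009865741320000000968754213000000098576421300000009876540231000000968754230100000098576423010000009876540312000000976854302100000097856430210000009658743021000000986574302100000096875410320000009857641032000000987654201300000096875431020000009857643102000000987654120300000097685432100000009785643210000000965874321000000098657432100000009687541320000000985764132000000098765421300000009876542301000000968754302100000098576430210000009876541032000000987654310200000096875432100000009857643210000000987654132000000098765430210000009876543210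
  hc := 0x9876543210

theorem fiveF0_step0 : fiveF0.stepOk 0 fiveF0s0 = true := by decide +kernel

theorem fiveF0_step1 : fiveF0.stepOk 1 fiveF0s1 = true := by decide +kernel

theorem fiveF0_step2 : fiveF0.stepOk 2 fiveF0s2 = true := by decide +kernel

theorem fiveF0_step3 : fiveF0.stepOk 3 fiveF0s3 = true := by decide +kernel

theorem fiveF0_step4 : fiveF0.stepOk 4 fiveF0s4 = true := by decide +kernel

theorem fiveF0_front : fiveF0.frontOk = true := by decide +kernel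

theorem fiveF0_ok : fiveF0.check = true :=
  Stage.check_of _ fiveF0_front (
    Stage.stepsOk_cons _ fiveF0_step0 (
    Stage.stepsOk_cons _ fiveF0_step1 (
    Stage.stepsOk_cons _ fiveF0_step2 (
    Stage.stepsOk_cons _ fiveF0_step3 (
    Stage.stepsOk_cons _ fiveF0_step4 (
    (by decide +kernel)))))))

/-- certificate data -/
def fiveF2s0 : Step :=
  ⟨[(1,0),(1,1),(1,2),(1,3),(1,4),(1,5),(1,6),(1,7),(1,8),(1,9),(1,10),(1,11),(1,12),(1,13),(1,14),(1,15),(1,16),(1,17),(1,18),(1,19)],[[1620,2166],[1428,2437]],[⟨637926715920,654820258320,[(1,3),(17,35),(15,3),(18,3),(0,35),(9,13),(14,35),(16,35),(19,0),(10,13),(8,13),(4,0),(6,13),(2,13),(7,13),(3,34),(12,15),(11,15),(13,15),(5,0)],[]⟩,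
   ⟨298341446160,654820258320,[(1,15),(0,4),(16,15),(6,35),(13,61),(9,4),(3,34),(19,61),(15,4),(5,15),(14,0),(12,3),(11,13),(4,14),(10,0),(8,15),(2,4),(18,0),(17,0),(7,14)],[]⟩]⟩

/-- certificate data -/
def fiveF2s1 : Step :=
  ⟨[(1,0),(1,20),(1,9),(1,21)],[[528],[801],[1893],[2166]],[⟨654820257825,654820258320,[(0,1),(20,1),(9,1),(21,1)],[]⟩,
   ⟨654820250400,654820258320,[(0,2),(20,2),(9,2),(21,2)],[]⟩,
   ⟨654301213200,654820258320,[(0,3),(9,13),(21,0),(20,3)],[]⟩,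
   ⟨646515536400,654820258320,[(21,4),(0,35),(9,13),(20,13)],[]⟩]⟩

/-- certificate data -/
def fiveF2s2 : Step :=
  ⟨[(1,1),(1,5),(1,22),(1,23)],[[528],[801],[1893],[2166]],[⟨654820257825,654820258320,[(1,1),(5,1),(22,1),(23,1)],[]⟩,
   ⟨654820250400,654820258320,[(1,2),(5,2),(22,2),(23,2)],[]⟩,
   ⟨654301213200,654820258320,[(23,34),(5,13),(1,35),(22,0)],[]⟩,
   ⟨646515536400,654820258320,[(1,3),(23,13),(5,13),(22,13)],[]⟩]⟩

/-- certificate data -/
def fiveF2s3 : Step :=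
  ⟨[(1,2),(1,6),(1,24),(1,25)],[[528],[801],[1893],[2166]],[⟨654820257825,654820258320,[(2,1),(6,1),(24,1),(25,1)],[]⟩,
   ⟨654820250400,654820258320,[(2,2),(6,2),(24,2),(25,2)],[]⟩,
   ⟨654301213200,654820258320,[(25,3),(2,0),(24,15),(6,13)],[]⟩,
   ⟨646515536400,654820258320,[(24,15),(2,15),(6,15),(25,4)],[]⟩]⟩

/-- certificate data -/
def fiveF2s4 : Step :=
  ⟨[(1,3),(1,26),(1,16),(1,27)],[[528],[801],[1893],[2166]],[⟨654820257825,654820258320,[(3,1),(26,1),(16,1),(27,1)],[]⟩,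
   ⟨654820250400,654820258320,[(3,2),(26,2),(16,2),(27,2)],[]⟩,
   ⟨654301213200,654820258320,[(16,3),(26,4),(27,13),(3,0)],[]⟩,
   ⟨646515536400,654820258320,[(16,14),(3,34),(26,4),(27,15)],[]⟩]⟩

/-- certificate data -/
def fiveF2s5 : Step :=
  ⟨[(1,0)],[],[⟨0,0,[],[⟨3,[2132],637643600400,0,0,[(1,0),(28,4),(14,35),(29,15),(20,0),(9,0),(30,14),(3,4),(8,13),(31,61),(32,13),(11,3),(24,34),(6,34),(33,0),(26,0),(18,0),(34,0),(35,0),(22,3)]⟩,
    ⟨3,[1412,2149],637624922640,3,0,[(33,3),(12,35),(26,14),(13,4)]⟩,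
    ⟨4,[1380,1941],516563546640,3,0,[(31,13),(5,0),(9,15),(36,35)]⟩,
    ⟨4,[1412,2197],362766938640,4,0,[(22,4),(8,61),(21,13),(12,15)]⟩,
    ⟨2,[],654820258320,3,0,[(2,0),(6,0),(24,0),(25,0)]⟩,
    ⟨1,[1396,1893],653999419920,3,0,[(16,3),(18,35),(35,14),(36,15)]⟩,
    ⟨1,[1412,2405],298389615120,4,0,[(26,0),(11,34),(17,15),(37,0)]⟩,
    ⟨4,[1380,1685],379913122320,3,0,[(0,0),(4,0),(22,15),(30,3)]⟩,
    ⟨4,[1396,1893],653999419920,4,0,[(14,3),(33,4),(2,13),(38,0)]⟩,
    ⟨3,[1412,2149],637624922640,2,0,[(34,15),(0,61),(19,0),(31,61)]⟩,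
    ⟨3,[2388],311227134480,0,0,[(38,0),(1,15),(34,15),(19,34),(29,0),(36,61),(4,13),(37,0),(15,14),(9,4),(23,15),(12,0),(24,4),(39,0),(16,13),(26,13),(32,0),(21,13),(2,4),(30,15)]⟩,
    ⟨2,[],654820258320,4,0,[(3,0),(26,0),(16,0),(27,0)]⟩,
    ⟨1,[1412,2197],362766938640,3,0,[(23,14),(20,13),(11,35),(15,3)]⟩,
    ⟨4,[1412,2405],298389615120,1,0,[(36,0),(29,13),(14,0),(0,3)]⟩,
    ⟨1,[1396,1941],379141435920,3,0,[(34,35),(5,13),(21,15),(14,3)]⟩,
    ⟨3,[1380,2197],568908460560,3,0,[(1,0),(20,0),(39,61),(13,14)]⟩,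
    ⟨4,[1412,2197],362766938640,2,0,[(28,0),(36,34),(3,15),(2,61)]⟩,
    ⟨2,[1396,2405],310737580560,3,0,[(32,3),(2,3),(17,14),(31,0)]⟩,
    ⟨3,[1620],654787818000,0,0,[(31,0),(17,15),(14,3),(25,3),(4,3),(28,13),(27,0),(24,0),(20,3),(10,0),(23,0),(22,0),(13,0),(26,15),(38,13),(7,61),(18,15),(21,61),(36,0),(19,13)]⟩,
    ⟨3,[1396,1941],379141435920,4,0,[(0,0),(23,15),(32,13),(18,15)]⟩,
    ⟨4,[1380],654802563600,2,0,[(21,34),(32,13),(11,0),(10,0)]⟩,
    ⟨1,[1396,1893],653999419920,1,0,[(19,4),(22,13),(11,0),(39,0)]⟩,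
    ⟨1,[1412,2149],637624922640,4,0,[(15,3),(24,61),(35,15),(7,0)]⟩,
    ⟨1,[1396,1941],379141435920,1,0,[(3,0),(13,13),(37,4),(24,4)]⟩,
    ⟨4,[1380,1685],379913122320,2,0,[(17,4),(16,13),(24,4),(33,0)]⟩,
    ⟨3,[1412,2405],298389615120,3,0,[(10,3),(24,3),(8,3),(39,4)]⟩,
    ⟨1,[2388],311227134480,2,0,[(1,15),(36,61),(7,4),(33,4)]⟩]⟩]⟩

/-- certificate data -/
def fiveF2 : Stage where
  n := 10
  p := 5
  gens := [[528],[801],[1893],[2436]]
  facts := [[[1620,2166],[1428,2437]],[[528],[801],[1893],[2166]]]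
  reps := .node [] (.node [2132] (.node [1396,1941] (.node [2388,2439] (.node [1396,1669,2198] (.node [1620] (.nil) (.nil)) (.nil)) (.node [1428,2165,2198] (.node [1428,1893,2166] (.nil) (.nil)) (.nil))) (.node [1684,1893,2166] (.node [2196,1893,2166] (.node [1669,2198] (.nil) (.nil)) (.nil)) (.node [1380,1941] (.nil) (.nil)))) (.node [1428,2421] (.node [1428,2165] (.node [2132,2438] (.node [1876,1942,2439] (.nil) (.nil)) (.nil)) (.node [1652,1942] (.nil) (.nil))) (.node [1620,1942,2439] (.node [1684,2166] (.node [1940,2165] (.nil) (.nil)) (.nil)) (.node [1941] (.nil) (.nil))))) (.node [1380,1685] (.node [1940] (.node [1940,2166] (.node [1620,2405] (.node [1684] (.nil) (.nil)) (.nil)) (.node [1380,1941,2166] (.nil) (.nil))) (.node [1942,2439] (.node [1940,1925] (.node [1412,2405] (.nil) (.nil)) (.nil)) (.node [1428] (.nil) (.nil)))) (.node [2388,1942] (.node [1684,2165] (.node [1668,2198] (.node [2436,1685] (.nil) (.nil)) (.nil)) (.node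 [2164,1669,2198] (.nil) (.nil))) (.node [1653,1942] (.node [1940,2439] (.node [2388] (.nil) (.nil)) (.nil)) (.node [1396,2405] (.nil) (.nil)))))
  elts := .node [] (.node [528] (.node [1893] (.node [528,1893] (.node [2196] (.node [801,1653] (.node [304,2436,1893] (.nil) (.nil)) (.node [800,2436,1653] (.nil) (.nil))) (.node [528,2436,1653] (.node [528,801,2196,1893] (.nil) (.nil)) (.nil))) (.node [528,2436,1893] (.node [288,2436,1893] (.node [560,2196] (.nil) (.nil)) (.node [304,801,2196,1893] (.nil) (.nil))) (.node [784,2436] (.node [304,2196,1893] (.nil) (.nil)) (.nil)))) (.node [801,1893] (.node [560] (.node [2196,1893] (.node [304,801,1893] (.nil) (.nil)) (.node [784,2196,1893] (.nil) (.nil))) (.node [528,801,1653] (.node [561,2436,1653] (.nil) (.nil)) (.nil))) (.node [528,801,2436] (.node [560,2436] (.node [800,1653] (.nil) (.nil)) (.node [304,801,2196,1653] (.nil) (.nil))) (.node [801,2436,1653] (.node [304,801,2196] (.nil) (.nil))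 (.nil))))) (.node [288] (.node [528,801] (.node [288,1893] (.node [801,2196] (.node [288,2436,1653] (.nil) (.nil)) (.node [528,801,2196,1653] (.nil) (.nil))) (.node [800,1893] (.node [784,2436,1893] (.nil) (.nil)) (.nil))) (.node [800] (.node [304,801] (.node [288,561,2196,1893] (.nil) (.nil)) (.node [800,2196,1653] (.nil) (.nil))) (.node [561,2436,1893] (.node [304,801,1653] (.nil) (.nil)) (.nil)))) (.node [1653] (.node [288,561,2436] (.node [304,2436] (.node [560,1653] (.nil) (.nil)) (.node [304,2196,1653] (.nil) (.nil))) (.node [528,801,2196] (.node [801,2196,1653] (.nil) (.nil)) (.nil))) (.node [561,1893] (.node [288,561,2436,1893] (.node [800,2196] (.nil) (.nil)) (.nil)) (.node [2196,1653] (.node [560,2196,1893] (.nil) (.nil)) (.nil)))))) (.node [801] (.node [2436] (.node [528,2436] (.node [304] (.node [801,2436,1893] (.node [304,2196] (.nil) (.nil)) (.node [800,2196,1893] (.nil) (.nil))) (.node [528,2196,1893] (.node [784,1653]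 (.nil) (.nil)) (.nil))) (.node [528,2196] (.node [288,2196] (.node [288,561,2436,1653] (.nil) (.nil)) (.node [560,2196,1653] (.nil) (.nil))) (.node [561,1653] (.node [288,2196,1653] (.nil) (.nil)) (.nil)))) (.node [801,2436] (.node [288,561,1893] (.node [304,1893] (.node [304,801,2436] (.nil) (.nil)) (.node [561,2196,1653] (.nil) (.nil))) (.node [528,801,2436,1893] (.node [561,2196,1893] (.nil) (.nil)) (.nil))) (.node [784] (.node [288,561,1653] (.node [800,2436,1893] (.nil) (.nil)) (.nil)) (.node [801,2196,1893] (.node [560,2436,1653] (.nil) (.nil)) (.nil))))) (.node [288,561] (.node [561] (.node [288,2436] (.node [2436,1653] (.node [288,2196,1893] (.nil) (.nil)) (.node [784,2436,1653] (.nil) (.nil))) (.node [800,2436] (.node [784,2196] (.nil) (.nil)) (.nil))) (.node [528,801,1893] (.node [560,1893] (.node [528,2196,1653] (.nil) (.nil)) (.node [784,2196,1653] (.nil) (.nil))) (.node [561,2196] (.node [304,801,2436,1893] (.nil) (.nil))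 (.nil)))) (.node [2436,1893] (.node [528,1653] (.node [288,1653] (.node [560,2436,1893] (.nil) (.nil)) (.node [304,801,2436,1653] (.nil) (.nil))) (.node [784,1893] (.node [304,2436,1653] (.nil) (.nil)) (.nil))) (.node [561,2436] (.node [288,561,2196] (.node [528,801,2436,1653] (.nil) (.nil)) (.nil)) (.node [304,1653] (.node [288,561,2196,1653] (.nil) (.nil)) (.nil))))))
  chain := [(0,0),(1,0),(2,0),(3,0),(0,1),(1,1),(2,1),(3,1),(0,2),(1,2),(2,2),(3,2),(2,3),(3,3),(3,4),(1,5),(2,5),(3,5),(1,6),(2,6),(3,6),(2,7),(3,7),(3,8),(0,9),(2,9),(3,9),(0,10),(2,10),(3,10),(2,11),(3,11),(3,12),(3,13),(3,14),(2,16),(3,16),(2,17),(3,17),(3,18),(0,19),(2,19),(3,19),(2,20),(3,20),(3,21),(3,22),(3,23),(2,25),(3,25),(2,26),(3,26),(3,27),(2,28),(3,28),(2,29),(3,29),(3,30),(3,31),(3,32),(3,34),(2,36),(3,36),(3,37),(3,38),(3,39),(2,41),(3,41),(2,42),(3,42),(3,43),(3,44),(3,45),(3,47),(2,49),(3,49),(3,50),(3,51),(3,52),(2,54),(3,54),(3,55),(3,56),(3,57),(3,59),(3,62),(3,63),(3,65),(2,67),(3,67),(3,68),(3,69),(3,70),(3,72),(3,75),(3,76),(3,78),(3,80),(3,81),(3,83),(3,86),(3,89),(3,90),(3,92),(3,95),(3,98),(3,102)]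
  nrms := .node [] (.nil) (.nil)
  nnrm := 1
  nfix := [[1,2,3,4]]
  terms := .node [(1,0),(1,1),(1,2),(1,3),(1,4),(1,5),(1,6),(1,7),(1,8),(1,9),(1,10),(1,11),(1,12),(1,13),(1,14),(1,15),(1,16),(1,17),(1,18),(1,19)] (.node [(1,0),(1,20),(1,9),(1,21)] (.node [(1,2),(1,6),(1,24),(1,25)] (.nil) (.nil)) (.node [(1,0)] (.nil) (.nil))) (.node [(1,1),(1,5),(1,22),(1,23)] (.node [(1,3),(1,26),(1,16),(1,27)] (.nil) (.nil)) (.nil))
  steps := [fiveF2s0,fiveF2s1,fiveF2s2,fiveF2s3,fiveF2s4,fiveF2s5]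
  nrep := 40
  rc := 0x5784693210000000487695321000000075864932100000004579683210000000657984321000000069754832100000006489753210000000687459321000000098746532100000004859673210000000785694321000000058764932100000007845963210000000658947321000000068495732100000007584963210000000468579321000000047865932100000006487593210000000745689321000000087456932100000006479583210000000697485321000000068794532100000006459873210000000685974321000000047896532100000006789543210000000678549321000000065847932100000005486793210000000768459321000000074869532100000007864953210000000485679321000000078465932100000005846973210000000587496321000000094768532100000009876543210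
  xc := 0x84657901230000008465790231000000846579031200000084657920130000008457690123000000496578012300000084657912030000008465792130000000845769023100000049657802310000008465792301000000845769031200000049657803120000008465791032000000845769201300000049657820130000008476590123000000495768012300000098657401230000008465793102000000845769120300000049657812030000008465791320000000845769213000000049657821300000008476590231000000495768023100000098657402310000008457692301000000496578230100000084765903120000004957680312000000986574031200000084657930210000008457691032000000496578103200000084765920130000004957682013000000986574201300000049765801230000009857640123000000845769310200000049657831020000008476591203000000495768120300000098657412030000008465793210000000845769132000000049657813200000008476592130000000495768213000000098657421300000004976580231000000985764023100000084765923010000004957682301000000986574230100000049765803120000009857640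3120000008457693021000000496578302100000084765910320000004957681032000000986574103200000049765820130000009857642013000000987654012300000084765931020000004957683102000000986574310200000049765812030000009857641203000000845769321000000049657832100000008476591320000000495768132000000098657413200000004976582130000000985764213000000098765402310000004976582301000000985764230100000098765403120000008476593021000000495768302100000098657430210000004976581032000000985764103200000098765420130000004976583102000000985764310200000098765412030000008476593210000000495768321000000098657432100000004976581320000000985764132000000098765421300000009876542301000000497658302100000098576430210000009876541032000000987654310200000049765832100000009857643210000000987654132000000098765430210000009876543210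
  hc := 0x9876543210

theorem fiveF2_step0 : fiveF2.stepOk 0 fiveF2s0 = true := by decide +kernel

theorem fiveF2_step1 : fiveF2.stepOk 1 fiveF2s1 = true := by decide +kernel

theorem fiveF2_step2 : fiveF2.stepOk 2 fiveF2s2 = true := by decide +kernel

theorem fiveF2_step3 : fiveF2.stepOk 3 fiveF2s3 = true := by decide +kernel

theorem fiveF2_step4 : fiveF2.stepOk 4 fiveF2s4 = true := by decide +kernel

theorem fiveF2_step5 : fiveF2.stepOk 5 fiveF2s5 = true := by decide +kernel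

theorem fiveF2_front : fiveF2.frontOk = true := by decide +kernel

theorem fiveF2_ok : fiveF2.check = true :=
  Stage.check_of _ fiveF2_front (
    Stage.stepsOk_cons _ fiveF2_step0 (
    Stage.stepsOk_cons _ fiveF2_step1 (
    Stage.stepsOk_cons _ fiveF2_step2 (
    Stage.stepsOk_cons _ fiveF2_step3 (
    Stage.stepsOk_cons _ fiveF2_step4 (
    Stage.stepsOk_cons _ fiveF2_step5 (
    (by decide +kernel))))))))

/-- certificate data -/
def fiveF3s0 : Step :=
  ⟨[(1,0),(1,1),(1,2),(1,3),(1,4)],[[528],[528,1074]],[⟨654820257825,654820258320,[(0,1),(4,0),(2,18),(1,3),(3,10)],[]⟩,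
   ⟨654820000545,654820258320,[(1,0),(4,2),(0,14),(2,0),(3,33)],[]⟩]⟩

/-- certificate data -/
def fiveF3s1 : Step :=
  ⟨[(1,5),(1,6),(1,7),(1,8),(1,9)],[[528],[528,1074]],[⟨654820257825,654820258320,[(5,1),(7,10),(9,0),(8,18),(6,3)],[]⟩,
   ⟨654820000545,654820258320,[(6,0),(7,20),(9,16),(5,25),(8,10)],[]⟩]⟩

/-- certificate data -/
def fiveF3s2 : Step :=
  ⟨[(1,10),(1,11),(1,12),(1,13),(1,14)],[[528],[528,1074]],[⟨654820257825,654820258320,[(10,1),(14,10),(12,18),(11,3),(13,0)],[]⟩,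
   ⟨654820000545,654820258320,[(11,0),(14,20),(10,25),(12,10),(13,16)],[]⟩]⟩

/-- certificate data -/
def fiveF3s3 : Step :=
  ⟨[(1,15),(1,16),(1,17),(1,18),(1,19)],[[528],[528,1074]],[⟨654820257825,654820258320,[(15,1),(17,0),(19,0),(18,18),(16,0)],[]⟩,
   ⟨654820000545,654820258320,[(19,10),(17,16),(18,10),(15,25),(16,2)],[]⟩]⟩

/-- certificate data -/
def fiveF3s4 : Step :=
  ⟨[(1,20),(1,21),(1,22),(1,23),(1,24)],[[528],[528,1074]],[⟨654820257825,654820258320,[(20,1),(22,0),(23,0),(21,0),(24,18)],[]⟩,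
   ⟨654820000545,654820258320,[(23,3),(22,16),(24,0),(21,2),(20,25)],[]⟩]⟩

/-- certificate data -/
def fiveF3s5 : Step :=
  ⟨[(1,25),(1,26),(1,27),(1,28),(1,29)],[[528],[528,1074]],[⟨654820257825,654820258320,[(25,1),(27,3),(28,0),(26,10),(29,18)],[]⟩,
   ⟨654820000545,654820258320,[(26,0),(27,9),(28,16),(29,10),(25,5)],[]⟩]⟩

/-- certificate data -/
def fiveF3s6 : Step :=
  ⟨[(1,30),(1,31),(1,32),(1,33),(1,34)],[[528],[528,1074]],[⟨654820257825,654820258320,[(30,1),(32,0),(34,14),(33,18),(31,25)],[]⟩,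
   ⟨654820000545,654820258320,[(34,25),(32,16),(33,10),(30,5),(31,32)],[]⟩]⟩

/-- certificate data -/
def fiveF3s7 : Step :=
  ⟨[(1,35),(1,36),(1,37),(1,38),(1,39)],[[528],[528,1074]],[⟨654820257825,654820258320,[(35,1),(37,0),(38,0),(36,0),(39,18)],[]⟩,
   ⟨654820000545,654820258320,[(36,0),(37,2),(38,16),(39,10),(35,14)],[]⟩]⟩

/-- certificate data -/
def fiveF3s8 : Step :=
  ⟨[(1,40),(1,41),(1,42),(1,43),(1,44)],[[528],[528,1074]],[⟨654820257825,654820258320,[(40,1),(42,0),(44,14),(43,18),(41,25)],[]⟩,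
   ⟨654820000545,654820258320,[(44,14),(42,16),(43,10),(40,14),(41,32)],[]⟩]⟩

/-- certificate data -/
def fiveF3s9 : Step :=
  ⟨[(1,45),(1,46),(1,47),(1,48),(1,49)],[[528],[528,1074]],[⟨654820257825,654820258320,[(46,0),(49,14),(47,18),(48,16),(45,25)],[]⟩,
   ⟨654820000545,654820258320,[(46,16),(47,10),(48,0),(49,10),(45,32)],[]⟩]⟩

/-- certificate data -/
def fiveF3s10 : Step :=
  ⟨[(1,50),(1,51),(1,52),(1,53),(1,54)],[[528],[528,1074]],[⟨654820257825,654820258320,[(51,0),(52,0),(50,0),(53,18),(54,16)],[]⟩,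
   ⟨654820000545,654820258320,[(51,16),(53,0),(50,2),(54,10),(52,14)],[]⟩]⟩

/-- certificate data -/
def fiveF3s11 : Step :=
  ⟨[(1,0),(1,25),(1,55),(1,30)],[[528],[801],[1893],[2166]],[⟨654820257825,654820258320,[(0,1),(25,1),(55,1),(30,1)],[]⟩,
   ⟨654820250400,654820258320,[(0,2),(25,2),(55,2),(30,2)],[]⟩,
   ⟨654301213200,654820258320,[(0,3),(55,0),(30,0),(25,0)],[]⟩,
   ⟨646515536400,654820258320,[(25,3),(55,3),(0,3),(30,10)],[]⟩]⟩

/-- certificate data -/
def fiveF3s12 : Step :=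
  ⟨[(1,56),(1,57),(1,58),(1,48)],[[528],[801],[1893],[2166]],[⟨654820257825,654820258320,[(56,1),(57,1),(58,1),(48,16)],[]⟩,
   ⟨654820250400,654820258320,[(56,2),(57,2),(58,2),(48,18)],[]⟩,
   ⟨654301213200,654820258320,[(57,0),(58,0),(56,0),(48,10)],[]⟩,
   ⟨646515536400,654820258320,[(56,3),(58,10),(48,25),(57,25)],[]⟩]⟩

/-- certificate data -/
def fiveF3s13 : Step :=
  ⟨[(3,0),(4,59),(4,5),(4,6),(4,10),(2,11),(4,15),(2,60),(1,61),(2,62),(2,63),(2,20),(1,26),(2,64),(1,65),(4,36),(4,66),(2,67),(3,68),(2,69),(1,70),(4,21),(4,27),(3,28),(2,71),(4,16),(2,7),(1,38),(1,41),(1,72),(2,46),(3,32),(2,73),(1,74),(1,51),(1,23)],[[528,1893],[528,1074,1893,2439]],[⟨654301212705,654820258320,[(0,6),(75,10),(10,1),(14,10),(15,1),(16,10),(5,1),(62,1),(69,3),(20,1),(21,3),(60,1),(71,3),(31,3),(37,0),(41,0),(76,10),(59,0),(77,10),(22,0),(23,0),(78,0),(79,10),(64,10),(32,0),(9,0),(13,0),(44,14),(80,0),(38,0),(49,5),(26,10),(81,25),(52,0),(82,14),(83,3)],[⟨1,[800,1073,2439],521944515330,12,0,[(16,10),(84,10),(83,3),(71,14)]⟩,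
    ⟨2,[800,1073,2439],521944515330,11,0,[(66,0),(14,3),(41,0),(50,3)]⟩,
    ⟨1,[1074,1893,2439],384523453200,12,0,[(9,10),(51,10),(70,0),(32,14)]⟩,
    ⟨2,[1074],654820131600,12,0,[(76,10),(77,10),(67,0),(46,14)]⟩,
    ⟨4,[800,1073,2165,2438],453210358530,11,0,[(75,10),(7,3),(37,0),(84,3)]⟩,
    ⟨4,[528,1074,2165,2438],453210293025,12,0,[(11,0),(82,5),(23,0),(26,5)]⟩,
    ⟨1,[528,1074,1893,2199],573770318625,11,0,[(63,10),(61,10),(49,14),(23,3)]⟩,
    ⟨3,[528,1074,2165,2438],453210293025,11,0,[(85,10),(6,10),(36,0),(81,5)]⟩,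
    ⟨2,[528,1074],654820000545,12,0,[(59,0),(85,10),(86,0),(49,10)]⟩,
    ⟨4,[1074,1893,2439],384523453200,11,0,[(76,10),(17,3),(80,0),(73,3)]⟩,
    ⟨1,[1074,2439],521944580880,12,0,[(17,10),(74,10),(78,0),(79,5)]⟩,
    ⟨3,[1074,2165,2438],453210424080,12,0,[(13,10),(73,10),(22,0),(28,14)]⟩,
    ⟨3,[528,1074,2439],521944449825,11,0,[(86,0),(11,10),(44,14),(52,3)]⟩,
    ⟨3,[800,1073,1893,2439],384523387650,12,0,[(7,10),(50,10),(69,0),(31,14)]⟩,
    ⟨4,[800,1073,2165,2438],453210358530,12,0,[(14,10),(87,10),(21,0),(27,14)]⟩,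
    ⟨1,[800,1073,1893,2439],384523387650,11,0,[(68,0),(16,3),(72,0),(87,3)]⟩,
    ⟨3,[800,1073,1893,2199],573770384130,11,0,[(69,0),(83,3),(45,0),(21,3)]⟩,
    ⟨2,[800,1073],654820066050,12,0,[(68,0),(75,10),(66,0),(45,14)]⟩,
    ⟨1,[528,1074,1893,2439],384523322145,12,0,[(6,0),(52,10),(63,10),(34,10)]⟩,
    ⟨4,[528,1074],654820000545,11,0,[(1,0),(26,0),(64,0),(34,25)]⟩,
    ⟨1,[528,1074,1893,2199],573770318625,12,0,[(36,10),(44,14),(1,3),(65,5)]⟩]⟩,
   ⟨384523322145,654820258320,[(59,0),(7,20),(11,3),(14,2),(61,0),(83,20),(36,10),(1,10),(4,20),(26,0),(27,9),(64,3),(16,9),(72,2),(75,2),(66,2),(70,16),(88,10),(9,33),(28,16),(29,10),(79,16),(17,16),(18,10),(80,33),(38,16),(13,26),(89,10),(46,16),(77,16),(33,10),(90,10),(91,3),(43,0),(24,0),(71,9)],[⟨1,[800,1073],654820066050,11,0,[(4,0),(27,3),(71,3),(31,3)]⟩,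
    ⟨1,[800,1073,2439],521944515330,11,0,[(66,0),(14,3),(41,0),(50,3)]⟩,
    ⟨3,[1074,2439],521944580880,11,0,[(67,0),(13,3),(42,0),(51,3)]⟩,
    ⟨3,[1074,1893,2439],384523453200,12,0,[(9,10),(51,10),(70,0),(32,14)]⟩,
    ⟨4,[528,834,2439],521944630305,11,0,[(89,10),(12,0),(43,10),(53,3)]⟩,
    ⟨2,[528,834,2165,2438],453210473505,12,0,[(12,3),(90,3),(24,0),(29,5)]⟩,
    ⟨2,[528,834],654820181025,11,0,[(2,10),(29,0),(92,0),(33,0)]⟩,
    ⟨2,[528,834,1893,2199],573770499105,11,0,[(88,10),(93,0),(47,10),(24,3)]⟩,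
    ⟨3,[528,834,2439],521944630305,12,0,[(18,3),(91,3),(93,0),(92,5)]⟩,
    ⟨4,[],654820258320,1,0,[(5,0),(6,0),(7,0),(8,0),(9,0)]⟩,
    ⟨3,[],654820258320,0,0,[(0,0),(1,0),(2,0),(3,0),(4,0)]⟩,
    ⟨1,[1074,2439],521944580880,12,0,[(17,10),(74,10),(78,0),(79,5)]⟩,
    ⟨4,[1074,1893,2199],573770449680,11,0,[(70,0),(78,0),(46,0),(22,3)]⟩,
    ⟨4,[800,1073,1893,2439],384523387650,12,0,[(7,10),(50,10),(69,0),(31,14)]⟩,
    ⟨3,[],654820258320,9,0,[(45,0),(46,0),(47,0),(48,0),(49,0)]⟩,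
    ⟨2,[528,1074,1893,2199],573770318625,11,0,[(63,10),(61,10),(49,14),(23,3)]⟩,
    ⟨2,[1893,2199],573770576400,11,0,[(62,10),(60,10),(48,25),(20,0)]⟩,
    ⟨4,[],654820258320,2,0,[(10,0),(11,0),(12,0),(13,0),(14,0)]⟩,
    ⟨4,[],654820258320,3,0,[(15,0),(16,0),(17,0),(18,0),(19,0)]⟩,
    ⟨1,[528,1074,1893,2439],384523322145,11,0,[(59,0),(19,3),(65,0),(82,25)]⟩,
    ⟨4,[528,1074,2165,2438],453210293025,12,0,[(11,0),(82,5),(23,0),(26,5)]⟩,
    ⟨1,[528,834,1893,2439],384523502625,12,0,[(8,3),(53,10),(88,10),(33,5)]⟩,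
    ⟨1,[1074,1893,2439],384523453200,11,0,[(76,10),(17,3),(80,0),(73,3)]⟩,
    ⟨4,[1074],654820131600,12,0,[(76,10),(77,10),(67,0),(46,14)]⟩,
    ⟨1,[800,1073,2165,2438],453210358530,12,0,[(14,10),(87,10),(21,0),(27,14)]⟩,
    ⟨4,[800,1073,1893,2439],384523387650,11,0,[(68,0),(16,3),(72,0),(87,3)]⟩,
    ⟨2,[1074,1893,2199],573770449680,12,0,[(38,10),(42,0),(3,0),(80,5)]⟩,
    ⟨1,[1074,2165,2438],453210424080,12,0,[(13,10),(73,10),(22,0),(28,14)]⟩,
    ⟨4,[800,1073],654820066050,12,0,[(68,0),(75,10),(66,0),(45,14)]⟩,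
    ⟨3,[800,1073,1893,2199],573770384130,11,0,[(69,0),(83,3),(45,0),(21,3)]⟩]⟩]⟩

/-- certificate data -/
def fiveF3s14 : Step :=
  ⟨[(3,0),(1,1),(2,59),(4,57),(1,5),(1,6),(4,10),(4,11),(2,15),(4,61),(2,62),(1,63),(4,20),(3,25),(1,26),(3,55),(4,66),(1,67),(2,69),(3,70),(2,21),(4,71),(1,17),(2,7),(2,38),(3,42),(3,46),(1,32)],[[528,1653],[528,1074,2165,2438]],[⟨654537142305,654820258320,[(0,15),(4,10),(66,0),(56,1),(15,1),(16,10),(5,1),(7,10),(10,1),(21,3),(60,1),(83,10),(62,1),(30,1),(31,3),(25,1),(77,10),(85,10),(78,0),(61,10),(70,0),(28,0),(11,3),(17,0),(65,0),(36,0),(49,25),(64,10)],[⟨3,[528,1074],654820000545,12,0,[(59,0),(85,10),(86,0),(49,10)]⟩,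
    ⟨1,[1074],654820131600,11,0,[(3,10),(28,3),(79,0),(32,3)]⟩,
    ⟨3,[1074,1893,2439],384523453200,12,0,[(9,10),(51,10),(70,0),(32,14)]⟩,
    ⟨4,[800,1073],654820066050,12,0,[(68,0),(75,10),(66,0),(45,14)]⟩,
    ⟨1,[800,1073,2439],521944515330,11,0,[(66,0),(14,3),(41,0),(50,3)]⟩,
    ⟨3,[1893,2199],573770576400,12,0,[(35,10),(40,0),(0,3),(94,5)]⟩,
    ⟨3,[2165,2438],453210550800,12,0,[(10,0),(95,14),(20,10),(25,5)]⟩,
    ⟨2,[1893,2439],384523579920,11,0,[(56,0),(15,10),(94,0),(95,5)]⟩,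
    ⟨4,[1893],654301213200,13,0,[(0,3),(85,10),(10,0),(11,0),(15,0),(19,10),(5,0),(62,0),(63,0),(20,0),(23,3),(60,0),(64,0),(34,25),(36,0),(44,14),(68,0),(76,10),(75,10),(21,0),(22,0),(83,3),(71,0),(79,10),(31,0),(7,0),(14,0),(42,0),(72,0),(37,0),(46,10),(28,0),(74,0),(51,0),(73,0),(61,10)]⟩,
    ⟨3,[528,1074,1893,2439],384523322145,11,0,[(59,0),(19,3),(65,0),(82,25)]⟩,
    ⟨4,[528,1074],654820000545,11,0,[(1,0),(26,0),(64,0),(34,25)]⟩,
    ⟨1,[528,1893,2439],384523579425,13,0,[(56,1),(7,10),(10,6),(14,0),(60,1),(83,10),(35,15),(0,15),(4,10),(25,1),(27,3),(55,6),(16,3),(72,0),(75,0),(66,0),(70,0),(63,10),(9,10),(28,0),(26,10),(79,0),(17,0),(19,0),(80,10),(38,0),(13,3),(86,0),(46,0),(77,0),(34,14),(82,14),(81,14),(44,25),(23,0),(71,3)]⟩,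
    ⟨4,[1074,1893,2439],384523453200,11,0,[(76,10),(17,3),(80,0),(73,3)]⟩,
    ⟨1,[1074,2165,2438],453210424080,12,0,[(13,10),(73,10),(22,0),(28,14)]⟩,
    ⟨2,[1893,2439],384523579920,13,0,[(56,0),(6,0),(10,3),(11,3),(60,0),(61,0),(35,10),(0,10),(1,10),(25,0),(26,0),(55,3),(19,3),(65,0),(85,0),(86,0),(69,0),(70,0),(7,10),(27,0),(28,0),(71,3),(16,0),(17,0),(72,10),(37,0),(14,3),(67,0),(45,0),(75,0),(32,0),(73,0),(74,10),(42,3),(22,0),(64,0)]⟩,
    ⟨1,[528,1074,1893,2199],573770318625,11,0,[(63,10),(61,10),(49,14),(23,3)]⟩,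
    ⟨4,[1074,1893,2199],573770449680,12,0,[(38,10),(42,0),(3,0),(80,5)]⟩,
    ⟨1,[800,1073],654820066050,11,0,[(4,0),(27,3),(71,3),(31,3)]⟩,
    ⟨4,[800,1073,1893,2439],384523387650,12,0,[(7,10),(50,10),(69,0),(31,14)]⟩,
    ⟨1,[2165,2438],453210550800,13,0,[(57,0),(11,0),(15,3),(19,0),(62,0),(63,0),(40,10),(0,0),(1,0),(55,0),(64,0),(30,3),(6,10),(36,0),(86,3),(59,0),(21,0),(22,0),(14,10),(71,0),(79,10),(31,3),(7,0),(9,0),(37,10),(41,0),(16,3),(76,10),(45,10),(66,3),(28,0),(74,0),(51,10),(80,3),(78,0),(34,25)]⟩,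
    ⟨3,[528,1074,2165,2438],453210293025,11,0,[(85,10),(6,10),(36,0),(81,5)]⟩,
    ⟨2,[1074,1893,2199],573770449680,11,0,[(70,0),(78,0),(46,0),(22,3)]⟩,
    ⟨1,[800,1073,2165,2438],453210358530,11,0,[(75,10),(7,3),(37,0),(84,3)]⟩,
    ⟨4,[800,1073,2439],521944515330,12,0,[(16,10),(84,10),(83,3),(71,14)]⟩,
    ⟨1,[],654820258320,11,0,[(0,0),(25,0),(55,0),(30,0)]⟩,
    ⟨3,[528,1074,1893,2439],384523322145,12,0,[(6,0),(52,10),(63,10),(34,10)]⟩,
    ⟨4,[528,1074,2439],521944449825,11,0,[(86,0),(11,10),(44,14),(52,3)]⟩,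
    ⟨4,[528,1074,1893,2199],573770318625,12,0,[(36,10),(44,14),(1,3),(65,5)]⟩,
    ⟨2,[528,2165,2438],453210550305,13,0,[(57,1),(14,10),(15,6),(16,0),(62,1),(69,3),(40,15),(0,1),(4,0),(55,1),(71,3),(30,6),(7,3),(37,0),(66,3),(68,0),(22,0),(23,0),(13,10),(79,10),(64,10),(32,3),(9,0),(6,3),(38,10),(42,0),(17,3),(59,0),(46,10),(67,3),(26,10),(81,25),(52,10),(65,3),(61,10),(31,3)]⟩,
    ⟨3,[800,1073,1893,2199],573770384130,11,0,[(69,0),(83,3),(45,0),(21,3)]⟩,
    ⟨4,[800,1073,2165,2438],453210358530,12,0,[(14,10),(87,10),(21,0),(27,14)]⟩,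
    ⟨1,[800,1073,1893,2439],384523387650,11,0,[(68,0),(16,3),(72,0),(87,3)]⟩,
    ⟨4,[528],654820257825,13,0,[(0,1),(68,0),(5,1),(7,10),(10,1),(14,10),(15,1),(60,1),(83,10),(62,1),(69,3),(20,1),(27,3),(71,3),(72,0),(37,0),(67,0),(86,0),(76,10),(70,0),(63,10),(22,0),(28,0),(26,10),(79,10),(17,0),(9,0),(36,0),(42,0),(80,0),(49,14),(34,14),(82,14),(81,25),(52,0),(21,0)]⟩,
    ⟨1,[1074,2439],521944580880,11,0,[(67,0),(13,3),(42,0),(51,3)]⟩,
    ⟨1,[528,1074,2165,2438],453210293025,12,0,[(11,0),(82,5),(23,0),(26,5)]⟩]⟩,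
   ⟨453210293025,654820258320,[(85,10),(75,20),(14,20),(82,5),(19,0),(16,2),(63,0),(69,9),(44,5),(4,2),(64,0),(71,9),(34,5),(6,10),(7,9),(36,0),(22,16),(24,0),(79,33),(92,10),(32,26),(38,33),(43,10),(17,26),(96,10),(47,3),(29,10),(91,10)],[⟨2,[528,834,2165,2438],453210473505,11,0,[(97,10),(8,0),(39,10),(91,0)]⟩,
    ⟨3,[528,834],654820181025,12,0,[(96,10),(97,10),(89,10),(47,5)]⟩,
    ⟨1,[800,1073,1893,2199],573770384130,11,0,[(69,0),(83,3),(45,0),(21,3)]⟩,
    ⟨1,[800,1073,2439],521944515330,12,0,[(16,10),(84,10),(83,3),(71,14)]⟩,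
    ⟨2,[2439],521944707600,12,0,[(15,0),(98,14),(60,10),(55,5)]⟩,
    ⟨3,[2165,2438],453210550800,11,0,[(57,0),(5,10),(35,0),(98,5)]⟩,
    ⟨1,[],654820258320,5,0,[(25,0),(26,0),(27,0),(28,0),(29,0)]⟩,
    ⟨3,[528,1074,1893,2199],573770318625,11,0,[(63,10),(61,10),(49,14),(23,3)]⟩,
    ⟨1,[528,834,2439],521944630305,11,0,[(89,10),(12,0),(43,10),(53,3)]⟩,
    ⟨4,[528,1074],654820000545,11,0,[(1,0),(26,0),(64,0),(34,25)]⟩,
    ⟨1,[528,834,1893,2439],384523502625,12,0,[(8,3),(53,10),(88,10),(33,5)]⟩,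
    ⟨4,[800,1073,2165,2438],453210358530,11,0,[(75,10),(7,3),(37,0),(84,3)]⟩,
    ⟨4,[],654820258320,11,0,[(0,0),(25,0),(55,0),(30,0)]⟩,
    ⟨2,[1074,1893,2199],573770449680,11,0,[(70,0),(78,0),(46,0),(22,3)]⟩,
    ⟨3,[1074,2439],521944580880,11,0,[(67,0),(13,3),(42,0),(51,3)]⟩,
    ⟨3,[528],654820257825,13,0,[(0,1),(68,0),(5,1),(7,10),(10,1),(14,10),(15,1),(60,1),(83,10),(62,1),(69,3),(20,1),(27,3),(71,3),(72,0),(37,0),(67,0),(86,0),(76,10),(70,0),(63,10),(22,0),(28,0),(26,10),(79,10),(17,0),(9,0),(36,0),(42,0),(80,0),(49,14),(34,14),(82,14),(81,25),(52,0),(21,0)]⟩,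
    ⟨2,[1074,1893,2199],573770449680,12,0,[(38,10),(42,0),(3,0),(80,5)]⟩,
    ⟨4,[800,1073,2165,2438],453210358530,12,0,[(14,10),(87,10),(21,0),(27,14)]⟩,
    ⟨1,[800,1073,1893,2439],384523387650,11,0,[(68,0),(16,3),(72,0),(87,3)]⟩,
    ⟨3,[1074,2165,2438],453210424080,12,0,[(13,10),(73,10),(22,0),(28,14)]⟩,
    ⟨3,[528,1074],654820000545,13,0,[(1,0),(68,2),(6,0),(7,20),(11,0),(14,20),(19,10),(61,0),(83,20),(63,0),(69,9),(23,3),(27,9),(71,9),(72,2),(37,2),(67,16),(89,10),(76,33),(70,16),(88,10),(22,16),(28,16),(29,10),(79,33),(17,16),(9,16),(39,10),(42,16),(80,16),(47,10),(33,10),(90,10),(91,10),(53,0),(21,2)]⟩,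
    ⟨2,[1074,1893,2439],384523453200,12,0,[(9,10),(51,10),(70,0),(32,14)]⟩,
    ⟨4,[528,834,2165,2438],453210473505,12,0,[(12,3),(90,3),(24,0),(29,5)]⟩,
    ⟨3,[528,834],654820181025,11,0,[(2,10),(29,0),(92,0),(33,0)]⟩,
    ⟨2,[],654820258320,0,0,[(0,0),(1,0),(2,0),(3,0),(4,0)]⟩,
    ⟨3,[1893,2439],384523579920,13,0,[(56,0),(6,0),(10,3),(11,3),(60,0),(61,0),(35,10),(0,10),(1,10),(25,0),(26,0),(55,3),(19,3),(65,0),(85,0),(86,0),(69,0),(70,0),(7,10),(27,0),(28,0),(71,3),(16,0),(17,0),(72,10),(37,0),(14,3),(67,0),(45,0),(75,0),(32,0),(73,0),(74,10),(42,3),(22,0),(64,0)]⟩,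
    ⟨4,[528,1074],654820000545,12,0,[(59,0),(85,10),(86,0),(49,10)]⟩,
    ⟨3,[800,1073],654820066050,11,0,[(4,0),(27,3),(71,3),(31,3)]⟩,
    ⟨3,[],654820258320,8,0,[(40,0),(41,0),(42,0),(43,0),(44,0)]⟩,
    ⟨2,[],654820258320,6,0,[(30,0),(31,0),(32,0),(33,0),(34,0)]⟩,
    ⟨4,[],654820258320,4,0,[(20,0),(21,0),(22,0),(23,0),(24,0)]⟩,
    ⟨2,[2165,2438],453210550800,13,0,[(57,0),(11,0),(15,3),(19,0),(62,0),(63,0),(40,10),(0,0),(1,0),(55,0),(64,0),(30,3),(6,10),(36,0),(86,3),(59,0),(21,0),(22,0),(14,10),(71,0),(79,10),(31,3),(7,0),(9,0),(37,10),(41,0),(16,3),(76,10),(45,10),(66,3),(28,0),(74,0),(51,10),(80,3),(78,0),(34,25)]⟩,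
    ⟨3,[528,1074,2165,2438],453210293025,12,0,[(11,0),(82,5),(23,0),(26,5)]⟩,
    ⟨1,[1074],654820131600,11,0,[(3,10),(28,3),(79,0),(32,3)]⟩,
    ⟨3,[800,1073],654820066050,12,0,[(68,0),(75,10),(66,0),(45,14)]⟩,
    ⟨3,[800,1073,2439],521944515330,11,0,[(66,0),(14,3),(41,0),(50,3)]⟩,
    ⟨2,[1893,2439],384523579920,12,0,[(5,0),(54,14),(62,10),(30,5)]⟩,
    ⟨2,[800,1073,1893,2439],384523387650,12,0,[(7,10),(50,10),(69,0),(31,14)]⟩,
    ⟨3,[1074,2439],521944580880,12,0,[(17,10),(74,10),(78,0),(79,5)]⟩,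
    ⟨2,[528,1074,1893,2439],384523322145,12,0,[(6,0),(52,10),(63,10),(34,10)]⟩,
    ⟨3,[1074,1893,2439],384523453200,11,0,[(76,10),(17,3),(80,0),(73,3)]⟩,
    ⟨1,[1893],654301213200,13,0,[(0,3),(85,10),(10,0),(11,0),(15,0),(19,10),(5,0),(62,0),(63,0),(20,0),(23,3),(60,0),(64,0),(34,25),(36,0),(44,14),(68,0),(76,10),(75,10),(21,0),(22,0),(83,3),(71,0),(79,10),(31,0),(7,0),(14,0),(42,0),(72,0),(37,0),(46,10),(28,0),(74,0),(51,0),(73,0),(61,10)]⟩,
    ⟨4,[528,1074,1893,2439],384523322145,11,0,[(59,0),(19,3),(65,0),(82,25)]⟩,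
    ⟨4,[2439],521944707600,13,0,[(58,0),(19,10),(5,3),(6,3),(20,0),(23,3),(94,10),(0,3),(1,3),(30,0),(34,25),(25,3),(11,10),(44,14),(59,3),(85,10),(83,3),(78,0),(16,10),(31,0),(32,0),(27,3),(14,0),(13,0),(41,10),(72,0),(7,3),(77,10),(45,3),(68,3),(79,10),(51,0),(73,10),(38,3),(70,0),(26,0)]⟩,
    ⟨2,[528,1074,1893,2199],573770318625,12,0,[(36,10),(44,14),(1,3),(65,5)]⟩,
    ⟨2,[],654820258320,1,0,[(5,0),(6,0),(7,0),(8,0),(9,0)]⟩,
    ⟨2,[],654820258320,9,0,[(45,0),(46,0),(47,0),(48,0),(49,0)]⟩,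
    ⟨3,[1893,2199],573770576400,11,0,[(62,10),(60,10),(48,25),(20,0)]⟩,
    ⟨2,[2165,2438],453210550800,12,0,[(10,0),(95,14),(20,10),(25,5)]⟩,
    ⟨3,[1893,2439],384523579920,11,0,[(56,0),(15,10),(94,0),(95,5)]⟩,
    ⟨1,[],654820258320,3,0,[(15,0),(16,0),(17,0),(18,0),(19,0)]⟩,
    ⟨1,[528,834,1893,2199],573770499105,11,0,[(88,10),(93,0),(47,10),(24,3)]⟩,
    ⟨4,[528,834,2439],521944630305,12,0,[(18,3),(91,3),(93,0),(92,5)]⟩,
    ⟨3,[],654820258320,13,0,[(0,0),(59,0),(5,0),(6,0),(10,0),(11,0),(15,0),(60,0),(61,0),(62,0),(63,0),(20,0),(26,0),(64,0),(65,0),(36,0),(66,0),(67,0),(68,0),(69,0),(70,0),(21,0),(27,0),(28,0),(71,0),(16,0),(7,0),(38,0),(41,0),(72,0),(46,0),(32,0),(73,0),(74,0),(51,0),(23,0)]⟩,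
    ⟨1,[528,1893,2439],384523579425,13,0,[(56,1),(7,10),(10,6),(14,0),(60,1),(83,10),(35,15),(0,15),(4,10),(25,1),(27,3),(55,6),(16,3),(72,0),(75,0),(66,0),(70,0),(63,10),(9,10),(28,0),(26,10),(79,0),(17,0),(19,0),(80,10),(38,0),(13,3),(86,0),(46,0),(77,0),(34,14),(82,14),(81,14),(44,25),(23,0),(71,3)]⟩,
    ⟨3,[2439],521944707600,11,0,[(58,0),(10,10),(40,0),(54,5)]⟩,
    ⟨1,[1893,2199],573770576400,12,0,[(35,10),(40,0),(0,3),(94,5)]⟩]⟩]⟩

/-- certificate data -/
def fiveF3s15 : Step :=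
  ⟨[(4,56),(4,57),(4,5),(1,60)],[[528],[528,1074]],[⟨654820257825,654820258320,[(56,1),(57,1),(5,1),(60,1)],[]⟩,
   ⟨654820000545,654820258320,[(59,0),(85,10),(6,0),(61,0)],[⟨4,[],654820258320,13,0,[(0,0),(59,0),(5,0),(6,0),(10,0),(11,0),(15,0),(60,0),(61,0),(62,0),(63,0),(20,0),(26,0),(64,0),(65,0),(36,0),(66,0),(67,0),(68,0),(69,0),(70,0),(21,0),(27,0),(28,0),(71,0),(16,0),(7,0),(38,0),(41,0),(72,0),(46,0),(32,0),(73,0),(74,0),(51,0),(23,0)]⟩,
    ⟨1,[1074,1893,2439],384523453200,12,0,[(9,10),(51,10),(70,0),(32,14)]⟩,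
    ⟨2,[528,1074,2165,2438],453210293025,11,0,[(85,10),(6,10),(36,0),(81,5)]⟩,
    ⟨1,[1074],654820131600,11,0,[(3,10),(28,3),(79,0),(32,3)]⟩,
    ⟨2,[800,1073,1893,2439],384523387650,12,0,[(7,10),(50,10),(69,0),(31,14)]⟩,
    ⟨3,[528,1893,2439],384523579425,13,0,[(56,1),(7,10),(10,6),(14,0),(60,1),(83,10),(35,15),(0,15),(4,10),(25,1),(27,3),(55,6),(16,3),(72,0),(75,0),(66,0),(70,0),(63,10),(9,10),(28,0),(26,10),(79,0),(17,0),(19,0),(80,10),(38,0),(13,3),(86,0),(46,0),(77,0),(34,14),(82,14),(81,14),(44,25),(23,0),(71,3)]⟩,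
    ⟨2,[528,1074],654820000545,11,0,[(1,0),(26,0),(64,0),(34,25)]⟩,
    ⟨3,[1074,1893,2439],384523453200,11,0,[(76,10),(17,3),(80,0),(73,3)]⟩,
    ⟨1,[1074],654820131600,12,0,[(76,10),(77,10),(67,0),(46,14)]⟩,
    ⟨1,[800,1073,2439],521944515330,11,0,[(66,0),(14,3),(41,0),(50,3)]⟩,
    ⟨2,[528,1074,1893,2199],573770318625,11,0,[(63,10),(61,10),(49,14),(23,3)]⟩,
    ⟨1,[1074,1893,2199],573770449680,12,0,[(38,10),(42,0),(3,0),(80,5)]⟩,
    ⟨2,[2439],521944707600,13,0,[(58,0),(19,10),(5,3),(6,3),(20,0),(23,3),(94,10),(0,3),(1,3),(30,0),(34,25),(25,3),(11,10),(44,14),(59,3),(85,10),(83,3),(78,0),(16,10),(31,0),(32,0),(27,3),(14,0),(13,0),(41,10),(72,0),(7,3),(77,10),(45,3),(68,3),(79,10),(51,0),(73,10),(38,3),(70,0),(26,0)]⟩,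
    ⟨2,[528,1074],654820000545,13,0,[(1,0),(68,2),(6,0),(7,20),(11,0),(14,20),(19,10),(61,0),(83,20),(63,0),(69,9),(23,3),(27,9),(71,9),(72,2),(37,2),(67,16),(89,10),(76,33),(70,16),(88,10),(22,16),(28,16),(29,10),(79,33),(17,16),(9,16),(39,10),(42,16),(80,16),(47,10),(33,10),(90,10),(91,10),(53,0),(21,2)]⟩,
    ⟨2,[528,834,2439],521944630305,11,0,[(89,10),(12,0),(43,10),(53,3)]⟩,
    ⟨2,[528,834],654820181025,11,0,[(2,10),(29,0),(92,0),(33,0)]⟩,
    ⟨3,[],654820258320,7,0,[(35,0),(36,0),(37,0),(38,0),(39,0)]⟩,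
    ⟨3,[],654820258320,0,0,[(0,0),(1,0),(2,0),(3,0),(4,0)]⟩,
    ⟨4,[528,834,1893,2439],384523502625,12,0,[(8,3),(53,10),(88,10),(33,5)]⟩,
    ⟨1,[],654820258320,1,0,[(5,0),(6,0),(7,0),(8,0),(9,0)]⟩,
    ⟨2,[],654820258320,8,0,[(40,0),(41,0),(42,0),(43,0),(44,0)]⟩,
    ⟨2,[528,834,1893,2199],573770499105,11,0,[(88,10),(93,0),(47,10),(24,3)]⟩,
    ⟨3,[528,834,2439],521944630305,12,0,[(18,3),(91,3),(93,0),(92,5)]⟩,
    ⟨2,[],654820258320,10,0,[(50,0),(51,0),(52,0),(53,0),(54,0)]⟩,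
    ⟨4,[1893,2439],384523579920,12,0,[(5,0),(54,14),(62,10),(30,5)]⟩,
    ⟨3,[],654820258320,6,0,[(30,0),(31,0),(32,0),(33,0),(34,0)]⟩,
    ⟨4,[],654820258320,5,0,[(25,0),(26,0),(27,0),(28,0),(29,0)]⟩,
    ⟨3,[],654820258320,4,0,[(20,0),(21,0),(22,0),(23,0),(24,0)]⟩,
    ⟨4,[1893,2439],384523579920,13,0,[(56,0),(6,0),(10,3),(11,3),(60,0),(61,0),(35,10),(0,10),(1,10),(25,0),(26,0),(55,3),(19,3),(65,0),(85,0),(86,0),(69,0),(70,0),(7,10),(27,0),(28,0),(71,3),(16,0),(17,0),(72,10),(37,0),(14,3),(67,0),(45,0),(75,0),(32,0),(73,0),(74,10),(42,3),(22,0),(64,0)]⟩,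
    ⟨4,[528,1074,2165,2438],453210293025,12,0,[(11,0),(82,5),(23,0),(26,5)]⟩,
    ⟨1,[528,1074,1893,2439],384523322145,14,0,[(59,0),(68,2),(7,20),(52,10),(11,3),(14,2),(61,0),(83,20),(36,10),(4,20),(26,0),(27,9),(64,3),(19,3),(16,9),(65,0),(70,16),(88,10),(28,16),(29,10),(79,16),(80,33),(39,10),(13,26),(89,10),(47,10),(33,10),(90,10)]⟩,
    ⟨4,[800,1073],654820066050,12,0,[(68,0),(75,10),(66,0),(45,14)]⟩,
    ⟨1,[],654820258320,14,0,[(0,0),(1,0),(59,0),(57,0),(5,0),(6,0),(10,0),(11,0),(15,0),(61,0),(62,0),(63,0),(20,0),(25,0),(26,0),(55,0),(66,0),(67,0),(69,0),(70,0),(21,0),(71,0),(17,0),(7,0),(38,0),(42,0),(46,0),(32,0)]⟩,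
    ⟨1,[2165,2438],453210550800,13,0,[(57,0),(11,0),(15,3),(19,0),(62,0),(63,0),(40,10),(0,0),(1,0),(55,0),(64,0),(30,3),(6,10),(36,0),(86,3),(59,0),(21,0),(22,0),(14,10),(71,0),(79,10),(31,3),(7,0),(9,0),(37,10),(41,0),(16,3),(76,10),(45,10),(66,3),(28,0),(74,0),(51,10),(80,3),(78,0),(34,25)]⟩,
    ⟨2,[1893],654301213200,13,0,[(0,3),(85,10),(10,0),(11,0),(15,0),(19,10),(5,0),(62,0),(63,0),(20,0),(23,3),(60,0),(64,0),(34,25),(36,0),(44,14),(68,0),(76,10),(75,10),(21,0),(22,0),(83,3),(71,0),(79,10),(31,0),(7,0),(14,0),(42,0),(72,0),(37,0),(46,10),(28,0),(74,0),(51,0),(73,0),(61,10)]⟩,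
    ⟨4,[528,1893,2439],384523579425,14,0,[(56,1),(68,0),(7,10),(54,21),(10,6),(14,0),(60,1),(83,10),(35,15),(4,10),(25,1),(27,3),(55,6),(15,15),(16,3),(94,1),(70,0),(63,10),(28,0),(26,10),(79,0),(80,10),(36,0),(13,3),(86,0),(49,14),(34,14),(82,14)]⟩,
    ⟨1,[2421,2438],436349448720,14,0,[(5,0),(6,0),(11,3),(20,3),(60,3),(61,3),(0,10),(1,10),(58,10),(59,10),(15,10),(19,3),(94,3),(35,3),(36,3),(57,3),(27,0),(28,0),(16,0),(17,0),(72,0),(75,10),(67,0),(83,3),(70,0),(32,0),(73,0),(74,10)]⟩,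
    ⟨3,[528,1074,1893,2199],573770318625,12,0,[(36,10),(44,14),(1,3),(65,5)]⟩,
    ⟨3,[],654820258320,2,0,[(10,0),(11,0),(12,0),(13,0),(14,0)]⟩,
    ⟨2,[1893,2439],384523579920,14,0,[(56,0),(59,0),(6,0),(54,14),(10,3),(11,3),(60,0),(61,0),(35,10),(1,10),(25,0),(26,0),(55,3),(15,10),(19,3),(94,0),(69,0),(70,0),(27,0),(28,0),(71,3),(72,10),(38,0),(14,3),(67,0),(46,0),(32,0),(73,0)]⟩,
    ⟨1,[528,1074],654820000545,12,0,[(59,0),(85,10),(86,0),(49,10)]⟩,
    ⟨3,[],654820258320,11,0,[(0,0),(25,0),(55,0),(30,0)]⟩,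
    ⟨4,[800,1073,2165,2438],453210358530,11,0,[(75,10),(7,3),(37,0),(84,3)]⟩,
    ⟨1,[800,1073,2439],521944515330,12,0,[(16,10),(84,10),(83,3),(71,14)]⟩,
    ⟨2,[528,2165,2438],453210550305,13,0,[(57,1),(14,10),(15,6),(16,0),(62,1),(69,3),(40,15),(0,1),(4,0),(55,1),(71,3),(30,6),(7,3),(37,0),(66,3),(68,0),(22,0),(23,0),(13,10),(79,10),(64,10),(32,3),(9,0),(6,3),(38,10),(42,0),(17,3),(59,0),(46,10),(67,3),(26,10),(81,25),(52,10),(65,3),(61,10),(31,3)]⟩,
    ⟨1,[528,2421,2438],436349448225,14,0,[(5,1),(7,10),(14,0),(20,6),(60,6),(83,0),(0,15),(4,10),(58,15),(68,10),(15,15),(16,3),(94,6),(35,6),(37,3),(57,6),(28,0),(26,10),(17,0),(19,0),(80,0),(77,10),(86,0),(78,0),(63,10),(34,14),(82,14),(81,14)]⟩,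
    ⟨1,[1074,2165,2438],453210424080,12,0,[(13,10),(73,10),(22,0),(28,14)]⟩,
    ⟨2,[528,1074],654820000545,14,0,[(1,0),(4,2),(68,2),(85,10),(6,0),(7,20),(11,0),(14,20),(19,10),(83,20),(63,0),(69,9),(23,3),(26,0),(27,9),(64,0),(67,16),(89,10),(70,16),(88,10),(22,16),(79,33),(18,10),(9,16),(39,10),(43,10),(47,10),(33,10)]⟩,
    ⟨3,[1074,1893,2199],573770449680,11,0,[(70,0),(78,0),(46,0),(22,3)]⟩,
    ⟨1,[800,1073],654820066050,11,0,[(4,0),(27,3),(71,3),(31,3)]⟩,
    ⟨3,[1074,2439],521944580880,11,0,[(67,0),(13,3),(42,0),(51,3)]⟩,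
    ⟨1,[1893,2199],573770576400,12,0,[(35,10),(40,0),(0,3),(94,5)]⟩,
    ⟨4,[800,1073,1893,2199],573770384130,11,0,[(69,0),(83,3),(45,0),(21,3)]⟩]⟩]⟩

/-- certificate data -/
def fiveF3s16 : Step :=
  ⟨[(1,0),(1,56),(4,10),(1,62)],[[528],[528,1074]],[⟨654820257825,654820258320,[(0,1),(56,1),(10,1),(62,1)],[]⟩,
   ⟨654820000545,654820258320,[(1,0),(59,0),(11,0),(63,0)],[⟨2,[528,2421,2438],436349448225,14,0,[(5,1),(7,10),(14,0),(20,6),(60,6),(83,0),(0,15),(4,10),(58,15),(68,10),(15,15),(16,3),(94,6),(35,6),(37,3),(57,6),(28,0),(26,10),(17,0),(19,0),(80,0),(77,10),(86,0),(78,0),(63,10),(34,14),(82,14),(81,14)]⟩,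
    ⟨2,[528,1074,1893,2439],384523322145,11,0,[(59,0),(19,3),(65,0),(82,25)]⟩,
    ⟨4,[800,1073,2439],521944515330,12,0,[(16,10),(84,10),(83,3),(71,14)]⟩,
    ⟨1,[800,1073,2165,2438],453210358530,11,0,[(75,10),(7,3),(37,0),(84,3)]⟩,
    ⟨3,[1074,1893,2439],384523453200,12,0,[(9,10),(51,10),(70,0),(32,14)]⟩,
    ⟨3,[800,1073,2165,2438],453210358530,12,0,[(14,10),(87,10),(21,0),(27,14)]⟩,
    ⟨2,[800,1073,1893,2439],384523387650,11,0,[(68,0),(16,3),(72,0),(87,3)]⟩,
    ⟨2,[528],654820257825,13,0,[(0,1),(68,0),(5,1),(7,10),(10,1),(14,10),(15,1),(60,1),(83,10),(62,1),(69,3),(20,1),(27,3),(71,3),(72,0),(37,0),(67,0),(86,0),(76,10),(70,0),(63,10),(22,0),(28,0),(26,10),(79,10),(17,0),(9,0),(36,0),(42,0),(80,0),(49,14),(34,14),(82,14),(81,25),(52,0),(21,0)]⟩,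
    ⟨2,[528,1893,2439],384523579425,13,0,[(56,1),(7,10),(10,6),(14,0),(60,1),(83,10),(35,15),(0,15),(4,10),(25,1),(27,3),(55,6),(16,3),(72,0),(75,0),(66,0),(70,0),(63,10),(9,10),(28,0),(26,10),(79,0),(17,0),(19,0),(80,10),(38,0),(13,3),(86,0),(46,0),(77,0),(34,14),(82,14),(81,14),(44,25),(23,0),(71,3)]⟩,
    ⟨3,[2165,2438],453210550800,13,0,[(57,0),(11,0),(15,3),(19,0),(62,0),(63,0),(40,10),(0,0),(1,0),(55,0),(64,0),(30,3),(6,10),(36,0),(86,3),(59,0),(21,0),(22,0),(14,10),(71,0),(79,10),(31,3),(7,0),(9,0),(37,10),(41,0),(16,3),(76,10),(45,10),(66,3),(28,0),(74,0),(51,10),(80,3),(78,0),(34,25)]⟩,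
    ⟨2,[1074,2165,2438],453210424080,12,0,[(13,10),(73,10),(22,0),(28,14)]⟩,
    ⟨3,[528,1074,1893,2199],573770318625,12,0,[(36,10),(44,14),(1,3),(65,5)]⟩,
    ⟨2,[528,1074,2165,2438],453210293025,12,0,[(11,0),(82,5),(23,0),(26,5)]⟩,
    ⟨2,[1893,2439],384523579920,11,0,[(56,0),(15,10),(94,0),(95,5)]⟩,
    ⟨4,[528,1074],654820000545,14,0,[(1,0),(4,2),(68,2),(85,10),(6,0),(7,20),(11,0),(14,20),(19,10),(83,20),(63,0),(69,9),(23,3),(26,0),(27,9),(64,0),(67,16),(89,10),(70,16),(88,10),(22,16),(79,33),(18,10),(9,16),(39,10),(43,10),(47,10),(33,10)]⟩,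
    ⟨3,[],654820258320,2,0,[(10,0),(11,0),(12,0),(13,0),(14,0)]⟩,
    ⟨3,[],654820258320,8,0,[(40,0),(41,0),(42,0),(43,0),(44,0)]⟩,
    ⟨1,[],654820258320,3,0,[(15,0),(16,0),(17,0),(18,0),(19,0)]⟩,
    ⟨2,[],654820258320,6,0,[(30,0),(31,0),(32,0),(33,0),(34,0)]⟩,
    ⟨3,[528,1074,2165,2438],453210293025,11,0,[(85,10),(6,10),(36,0),(81,5)]⟩,
    ⟨2,[528,834,2165,2438],453210473505,12,0,[(12,3),(90,3),(24,0),(29,5)]⟩,
    ⟨4,[],654820258320,5,0,[(25,0),(26,0),(27,0),(28,0),(29,0)]⟩,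
    ⟨3,[],654820258320,4,0,[(20,0),(21,0),(22,0),(23,0),(24,0)]⟩,
    ⟨4,[528,1074],654820000545,12,0,[(59,0),(85,10),(86,0),(49,10)]⟩,
    ⟨1,[528,1074,1893,2199],573770318625,11,0,[(63,10),(61,10),(49,14),(23,3)]⟩,
    ⟨2,[1893,2439],384523579920,12,0,[(5,0),(54,14),(62,10),(30,5)]⟩,
    ⟨2,[1074,2439],521944580880,12,0,[(17,10),(74,10),(78,0),(79,5)]⟩,
    ⟨3,[2165,2438],453210550800,14,0,[(57,0),(85,10),(11,0),(95,14),(15,3),(19,0),(62,0),(63,0),(40,10),(1,0),(55,0),(64,0),(30,3),(5,10),(6,10),(35,0),(21,0),(22,0),(71,0),(79,10),(31,3),(37,10),(42,0),(16,3),(76,10),(46,10),(28,0),(74,0)]⟩,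
    ⟨4,[],654820258320,7,0,[(35,0),(36,0),(37,0),(38,0),(39,0)]⟩,
    ⟨2,[1893,2439],384523579920,14,0,[(56,0),(59,0),(6,0),(54,14),(10,3),(11,3),(60,0),(61,0),(35,10),(1,10),(25,0),(26,0),(55,3),(15,10),(19,3),(94,0),(69,0),(70,0),(27,0),(28,0),(71,3),(72,10),(38,0),(14,3),(67,0),(46,0),(32,0),(73,0)]⟩,
    ⟨1,[1074,1893,2199],573770449680,11,0,[(70,0),(78,0),(46,0),(22,3)]⟩,
    ⟨2,[800,1073],654820066050,11,0,[(4,0),(27,3),(71,3),(31,3)]⟩,
    ⟨3,[528,1074,1893,2439],384523322145,14,0,[(59,0),(68,2),(7,20),(52,10),(11,3),(14,2),(61,0),(83,20),(36,10),(4,20),(26,0),(27,9),(64,3),(19,3),(16,9),(65,0),(70,16),(88,10),(28,16),(29,10),(79,16),(80,33),(39,10),(13,26),(89,10),(47,10),(33,10),(90,10)]⟩,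
    ⟨2,[],654820258320,11,0,[(0,0),(25,0),(55,0),(30,0)]⟩,
    ⟨3,[528,2165,2438],453210550305,13,0,[(57,1),(14,10),(15,6),(16,0),(62,1),(69,3),(40,15),(0,1),(4,0),(55,1),(71,3),(30,6),(7,3),(37,0),(66,3),(68,0),(22,0),(23,0),(13,10),(79,10),(64,10),(32,3),(9,0),(6,3),(38,10),(42,0),(17,3),(59,0),(46,10),(67,3),(26,10),(81,25),(52,10),(65,3),(61,10),(31,3)]⟩,
    ⟨3,[2439],521944707600,12,0,[(15,0),(98,14),(60,10),(55,5)]⟩,
    ⟨2,[2165,2438],453210550800,11,0,[(57,0),(5,10),(35,0),(98,5)]⟩,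
    ⟨1,[2165,2438],453210550800,12,0,[(10,0),(95,14),(20,10),(25,5)]⟩,
    ⟨3,[2421,2438],436349448720,14,0,[(5,0),(6,0),(11,3),(20,3),(60,3),(61,3),(0,10),(1,10),(58,10),(59,10),(15,10),(19,3),(94,3),(35,3),(36,3),(57,3),(27,0),(28,0),(16,0),(17,0),(72,0),(75,10),(67,0),(83,3),(70,0),(32,0),(73,0),(74,10)]⟩,
    ⟨4,[528],654820257825,14,0,[(0,1),(4,0),(68,0),(57,1),(5,1),(7,10),(10,1),(14,10),(15,1),(83,10),(62,1),(69,3),(20,1),(25,1),(27,3),(55,1),(67,0),(86,0),(70,0),(63,10),(22,0),(79,10),(19,0),(9,0),(36,0),(44,14),(49,14),(34,14)]⟩,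
    ⟨1,[800,1073],654820066050,12,0,[(68,0),(75,10),(66,0),(45,14)]⟩,
    ⟨4,[1893,2439],384523579920,13,0,[(56,0),(6,0),(10,3),(11,3),(60,0),(61,0),(35,10),(0,10),(1,10),(25,0),(26,0),(55,3),(19,3),(65,0),(85,0),(86,0),(69,0),(70,0),(7,10),(27,0),(28,0),(71,3),(16,0),(17,0),(72,10),(37,0),(14,3),(67,0),(45,0),(75,0),(32,0),(73,0),(74,10),(42,3),(22,0),(64,0)]⟩,
    ⟨4,[],654820258320,9,0,[(45,0),(46,0),(47,0),(48,0),(49,0)]⟩,
    ⟨1,[1893,2199],573770576400,11,0,[(62,10),(60,10),(48,25),(20,0)]⟩,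
    ⟨1,[1074,2439],521944580880,11,0,[(67,0),(13,3),(42,0),(51,3)]⟩,
    ⟨2,[1893,2199],573770576400,12,0,[(35,10),(40,0),(0,3),(94,5)]⟩,
    ⟨3,[800,1073,1893,2199],573770384130,11,0,[(69,0),(83,3),(45,0),(21,3)]⟩]⟩]⟩

/-- certificate data -/
def fiveF3s17 : Step :=
  ⟨[(1,57),(1,5),(1,10),(1,20)],[[528],[528,1074]],[⟨654820257825,654820258320,[(57,1),(5,1),(10,1),(20,1)],[]⟩,
   ⟨654820000545,654820258320,[(85,10),(6,0),(11,0),(23,3)],[⟨4,[],654820258320,13,0,[(0,0),(59,0),(5,0),(6,0),(10,0),(11,0),(15,0),(60,0),(61,0),(62,0),(63,0),(20,0),(26,0),(64,0),(65,0),(36,0),(66,0),(67,0),(68,0),(69,0),(70,0),(21,0),(27,0),(28,0),(71,0),(16,0),(7,0),(38,0),(41,0),(72,0),(46,0),(32,0),(73,0),(74,0),(51,0),(23,0)]⟩,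
    ⟨2,[1074,1893,2439],384523453200,12,0,[(9,10),(51,10),(70,0),(32,14)]⟩,
    ⟨3,[528,1074,2165,2438],453210293025,11,0,[(85,10),(6,10),(36,0),(81,5)]⟩,
    ⟨4,[1074],654820131600,11,0,[(3,10),(28,3),(79,0),(32,3)]⟩,
    ⟨1,[528,1074,2439],521944449825,11,0,[(86,0),(11,10),(44,14),(52,3)]⟩,
    ⟨2,[2439],521944707600,12,0,[(15,0),(98,14),(60,10),(55,5)]⟩,
    ⟨3,[2165,2438],453210550800,11,0,[(57,0),(5,10),(35,0),(98,5)]⟩,
    ⟨2,[800,1073,1893,2439],384523387650,12,0,[(7,10),(50,10),(69,0),(31,14)]⟩,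
    ⟨3,[528,1074],654820000545,11,0,[(1,0),(26,0),(64,0),(34,25)]⟩,
    ⟨3,[1074,1893,2439],384523453200,11,0,[(76,10),(17,3),(80,0),(73,3)]⟩,
    ⟨4,[1074],654820131600,12,0,[(76,10),(77,10),(67,0),(46,14)]⟩,
    ⟨4,[1893],654301213200,13,0,[(0,3),(85,10),(10,0),(11,0),(15,0),(19,10),(5,0),(62,0),(63,0),(20,0),(23,3),(60,0),(64,0),(34,25),(36,0),(44,14),(68,0),(76,10),(75,10),(21,0),(22,0),(83,3),(71,0),(79,10),(31,0),(7,0),(14,0),(42,0),(72,0),(37,0),(46,10),(28,0),(74,0),(51,0),(73,0),(61,10)]⟩,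
    ⟨1,[528,1074,1893,2199],573770318625,12,0,[(36,10),(44,14),(1,3),(65,5)]⟩,
    ⟨4,[800,1073,2439],521944515330,11,0,[(66,0),(14,3),(41,0),(50,3)]⟩,
    ⟨4,[1074,2165,2438],453210424080,12,0,[(13,10),(73,10),(22,0),(28,14)]⟩,
    ⟨1,[1074,1893,2199],573770449680,12,0,[(38,10),(42,0),(3,0),(80,5)]⟩,
    ⟨1,[528,1074,1893,2439],384523322145,12,0,[(6,0),(52,10),(63,10),(34,10)]⟩,
    ⟨3,[528,2165,2438],453210550305,13,0,[(57,1),(14,10),(15,6),(16,0),(62,1),(69,3),(40,15),(0,1),(4,0),(55,1),(71,3),(30,6),(7,3),(37,0),(66,3),(68,0),(22,0),(23,0),(13,10),(79,10),(64,10),(32,3),(9,0),(6,3),(38,10),(42,0),(17,3),(59,0),(46,10),(67,3),(26,10),(81,25),(52,10),(65,3),(61,10),(31,3)]⟩,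
    ⟨3,[528,1074,2165,2438],453210293025,12,0,[(11,0),(82,5),(23,0),(26,5)]⟩,
    ⟨1,[2165,2438],453210550800,12,0,[(10,0),(95,14),(20,10),(25,5)]⟩,
    ⟨4,[1893,2439],384523579920,11,0,[(56,0),(15,10),(94,0),(95,5)]⟩,
    ⟨1,[2421,2438],436349448720,14,0,[(5,0),(6,0),(11,3),(20,3),(60,3),(61,3),(0,10),(1,10),(58,10),(59,10),(15,10),(19,3),(94,3),(35,3),(36,3),(57,3),(27,0),(28,0),(16,0),(17,0),(72,0),(75,10),(67,0),(83,3),(70,0),(32,0),(73,0),(74,10)]⟩,
    ⟨4,[],654820258320,14,0,[(0,0),(1,0),(59,0),(57,0),(5,0),(6,0),(10,0),(11,0),(15,0),(61,0),(62,0),(63,0),(20,0),(25,0),(26,0),(55,0),(66,0),(67,0),(69,0),(70,0),(21,0),(71,0),(17,0),(7,0),(38,0),(42,0),(46,0),(32,0)]⟩,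
    ⟨3,[528],654820257825,14,0,[(0,1),(4,0),(68,0),(57,1),(5,1),(7,10),(10,1),(14,10),(15,1),(83,10),(62,1),(69,3),(20,1),(25,1),(27,3),(55,1),(67,0),(86,0),(70,0),(63,10),(22,0),(79,10),(19,0),(9,0),(36,0),(44,14),(49,14),(34,14)]⟩,
    ⟨4,[528,834,2439],521944630305,11,0,[(89,10),(12,0),(43,10),(53,3)]⟩,
    ⟨3,[528,834,2165,2438],453210473505,12,0,[(12,3),(90,3),(24,0),(29,5)]⟩,
    ⟨4,[],654820258320,7,0,[(35,0),(36,0),(37,0),(38,0),(39,0)]⟩,
    ⟨2,[528,834,1893,2439],384523502625,12,0,[(8,3),(53,10),(88,10),(33,5)]⟩,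
    ⟨3,[],654820258320,1,0,[(5,0),(6,0),(7,0),(8,0),(9,0)]⟩,
    ⟨3,[],654820258320,2,0,[(10,0),(11,0),(12,0),(13,0),(14,0)]⟩,
    ⟨4,[],654820258320,10,0,[(50,0),(51,0),(52,0),(53,0),(54,0)]⟩,
    ⟨1,[],654820258320,5,0,[(25,0),(26,0),(27,0),(28,0),(29,0)]⟩,
    ⟨2,[],654820258320,4,0,[(20,0),(21,0),(22,0),(23,0),(24,0)]⟩,
    ⟨2,[800,1073],654820066050,12,0,[(68,0),(75,10),(66,0),(45,14)]⟩,
    ⟨2,[1893,2439],384523579920,14,0,[(56,0),(59,0),(6,0),(54,14),(10,3),(11,3),(60,0),(61,0),(35,10),(1,10),(25,0),(26,0),(55,3),(15,10),(19,3),(94,0),(69,0),(70,0),(27,0),(28,0),(71,3),(72,10),(38,0),(14,3),(67,0),(46,0),(32,0),(73,0)]⟩,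
    ⟨1,[528,1893,2439],384523579425,14,0,[(56,1),(68,0),(7,10),(54,21),(10,6),(14,0),(60,1),(83,10),(35,15),(4,10),(25,1),(27,3),(55,6),(15,15),(16,3),(94,1),(70,0),(63,10),(28,0),(26,10),(79,0),(80,10),(36,0),(13,3),(86,0),(49,14),(34,14),(82,14)]⟩,
    ⟨1,[2439],521944707600,13,0,[(58,0),(19,10),(5,3),(6,3),(20,0),(23,3),(94,10),(0,3),(1,3),(30,0),(34,25),(25,3),(11,10),(44,14),(59,3),(85,10),(83,3),(78,0),(16,10),(31,0),(32,0),(27,3),(14,0),(13,0),(41,10),(72,0),(7,3),(77,10),(45,3),(68,3),(79,10),(51,0),(73,10),(38,3),(70,0),(26,0)]⟩,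
    ⟨3,[2439],521944707600,11,0,[(58,0),(10,10),(40,0),(54,5)]⟩,
    ⟨3,[1893,2439],384523579920,13,0,[(56,0),(6,0),(10,3),(11,3),(60,0),(61,0),(35,10),(0,10),(1,10),(25,0),(26,0),(55,3),(19,3),(65,0),(85,0),(86,0),(69,0),(70,0),(7,10),(27,0),(28,0),(71,3),(16,0),(17,0),(72,10),(37,0),(14,3),(67,0),(45,0),(75,0),(32,0),(73,0),(74,10),(42,3),(22,0),(64,0)]⟩,
    ⟨2,[528,1074,1893,2439],384523322145,14,0,[(59,0),(68,2),(7,20),(52,10),(11,3),(14,2),(61,0),(83,20),(36,10),(4,20),(26,0),(27,9),(64,3),(19,3),(16,9),(65,0),(70,16),(88,10),(28,16),(29,10),(79,16),(80,33),(39,10),(13,26),(89,10),(47,10),(33,10),(90,10)]⟩,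
    ⟨3,[],654820258320,9,0,[(45,0),(46,0),(47,0),(48,0),(49,0)]⟩,
    ⟨2,[1893,2199],573770576400,11,0,[(62,10),(60,10),(48,25),(20,0)]⟩,
    ⟨1,[800,1073,1893,2199],573770384130,11,0,[(69,0),(83,3),(45,0),(21,3)]⟩,
    ⟨1,[528,2421,2438],436349448225,14,0,[(5,1),(7,10),(14,0),(20,6),(60,6),(83,0),(0,15),(4,10),(58,15),(68,10),(15,15),(16,3),(94,6),(35,6),(37,3),(57,6),(28,0),(26,10),(17,0),(19,0),(80,0),(77,10),(86,0),(78,0),(63,10),(34,14),(82,14),(81,14)]⟩,
    ⟨2,[800,1073,2439],521944515330,12,0,[(16,10),(84,10),(83,3),(71,14)]⟩,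
    ⟨3,[800,1073,2165,2438],453210358530,11,0,[(75,10),(7,3),(37,0),(84,3)]⟩,
    ⟨1,[528,1893,2439],384523579425,13,0,[(56,1),(7,10),(10,6),(14,0),(60,1),(83,10),(35,15),(0,15),(4,10),(25,1),(27,3),(55,6),(16,3),(72,0),(75,0),(66,0),(70,0),(63,10),(9,10),(28,0),(26,10),(79,0),(17,0),(19,0),(80,10),(38,0),(13,3),(86,0),(46,0),(77,0),(34,14),(82,14),(81,14),(44,25),(23,0),(71,3)]⟩,
    ⟨2,[528,1074],654820000545,14,0,[(1,0),(4,2),(68,2),(85,10),(6,0),(7,20),(11,0),(14,20),(19,10),(83,20),(63,0),(69,9),(23,3),(26,0),(27,9),(64,0),(67,16),(89,10),(70,16),(88,10),(22,16),(79,33),(18,10),(9,16),(39,10),(43,10),(47,10),(33,10)]⟩,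
    ⟨3,[],654820258320,3,0,[(15,0),(16,0),(17,0),(18,0),(19,0)]⟩,
    ⟨1,[1893,2439],384523579920,12,0,[(5,0),(54,14),(62,10),(30,5)]⟩,
    ⟨1,[1074,2439],521944580880,12,0,[(17,10),(74,10),(78,0),(79,5)]⟩,
    ⟨1,[],654820258320,11,0,[(0,0),(25,0),(55,0),(30,0)]⟩,
    ⟨3,[1074,2439],521944580880,11,0,[(67,0),(13,3),(42,0),(51,3)]⟩]⟩]⟩

/-- certificate data -/
def fiveF3s18 : Step :=
  ⟨[(1,0),(4,48)],[],[⟨0,0,[],[⟨1,[1893,2199],573770576400,11,0,[(62,10),(60,10),(48,25),(20,0)]⟩,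
    ⟨4,[],654820258320,17,0,[(57,0),(5,0),(10,0),(20,0)]⟩,
    ⟨4,[],654820258320,16,0,[(0,0),(56,0),(10,0),(62,0)]⟩,
    ⟨4,[],654820258320,15,0,[(56,0),(57,0),(5,0),(60,0)]⟩]⟩]⟩

/-- certificate data -/
def fiveF3s19 : Step :=
  ⟨[(1,0),(1,99),(1,100)],[[528],[801],[1893],[2436]],[⟨654820257825,654820258320,[(0,1),(99,1),(100,1)],[]⟩,
   ⟨654820250400,654820258320,[(0,2),(99,2),(100,2)],[]⟩,
   ⟨654301213200,654820258320,[(0,3),(99,3),(100,3)],[]⟩,
   ⟨315518104080,654820258320,[(100,3),(0,0),(99,10)],[]⟩]⟩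

/-- certificate data -/
def fiveF3s20 : Step :=
  ⟨[(1,0)],[],[⟨0,0,[],[⟨3,[],654820258320,19,0,[(0,0),(99,0),(100,0)]⟩,
    ⟨1,[2196],568921240080,18,1,[(0,0),(101,14)]⟩,
    ⟨3,[1668,2166],637388993040,18,0,[(101,0),(100,25)]⟩,
    ⟨3,[2166,2439],590144090640,18,2,[(101,0),(99,14)]⟩]⟩]⟩

/-- certificate data -/
def fiveF3 : Stage where
  n := 10
  p := 5
  gens := [[528],[801],[1893]]
  facts := [[[528],[528,1074]],[[528],[801],[1893],[2166]],[[528,1893],[528,1074,1893,2439]],[[528,1653],[528,1074,2165,2438]],[[528],[801],[1893],[2436]]]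
  reps := .node [] (.node [528,1074] (.node [1074,1893] (.node [800,1073,1669,2198] (.node [2149,2199] (.node [800,1073,2149] (.node [528,1074,1653,2198] (.nil) (.nil)) (.node [288,561,1685,2438] (.nil) (.nil))) (.node [528,834,2165,2439] (.node [1074,1925] (.nil) (.nil)) (.nil))) (.node [528,1074,2421,2198] (.node [528,834,2422] (.node [800,1073,1926] (.nil) (.nil)) (.nil)) (.node [1925] (.node [800,1073,2165,2198] (.nil) (.nil)) (.nil)))) (.node [528,1074,1926,2199] (.node [528,1074,1925,1942] (.node [1685] (.node [1074,2439] (.nil) (.nil)) (.node [2196] (.nil) (.nil))) (.node [1074,2405,2439] (.node [800,1073,2197,1926] (.nil) (.nil)) (.nil))) (.node [800,1073,1653,1926] (.node [528,834,1893,2422] (.node [800,1073,2438] (.nil) (.nil)) (.nil)) (.node [528,1074,1893,2439] (.node [528,834,1685,1926] (.nil) (.nil)) (.nil))))) (.node [2421,2438] (.node [1074,1669,2198] (.node [1074,1925,1942] (.node [528,834,1669,2166] (.node [528,1074,1685,2422]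 (.nil) (.nil)) (.node [528,834,2438] (.nil) (.nil))) (.node [560,577,2149,2438] (.node [560,577,1685,1926] (.nil) (.nil)) (.nil))) (.node [1669] (.node [800,1073,1941] (.node [1074,2165,2198] (.nil) (.nil)) (.nil)) (.node [2165,2438] (.node [528,834,2149,2439] (.nil) (.nil)) (.nil)))) (.node [1074,1669,1942] (.node [800,1073,2421,2198] (.node [800,1073,1685] (.node [800,1073,1893,2199] (.nil) (.nil)) (.node [1668,2166] (.nil) (.nil))) (.node [528,834,2405,2439] (.node [528,1074,2438] (.nil) (.nil)) (.nil))) (.node [528,834,1669] (.node [800,1073,2166,2439] (.node [1074,2438] (.nil) (.nil)) (.nil)) (.node [528,1074,2405,2199] (.node [528,834,2199] (.nil) (.nil)) (.nil)))))) (.node [528,834,1893] (.node [800,1073] (.node [528,834,1685,2166] (.node [800,1073,1925,1942] (.node [1074,2149] (.node [528,1074,1925] (.nil) (.nil)) (.node [528,834,1653,2438] (.nil) (.nil))) (.node [288,561,2165,2439] (.node [1074,1685,2422] (.nil) (.nil)) (.nil)))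 (.node [528,834,2421,2198] (.node [1941] (.node [800,1073,1685,2422] (.nil) (.nil)) (.nil)) (.node [1893,2439] (.node [528,834,1653,2198] (.nil) (.nil)) (.nil)))) (.node [528,834,1941,2166] (.node [2198] (.node [528,1074,1685] (.node [800,1073,1893,2439] (.nil) (.nil)) (.node [2436,1653] (.nil) (.nil))) (.node [528,1074,2405,2439] (.node [800,1073,1942,2439] (.nil) (.nil)) (.nil))) (.node [1074,1653,1926] (.node [560,577,1942] (.node [1074,1653,2438] (.nil) (.nil)) (.nil)) (.node [2405,2199] (.node [528,834,1925] (.nil) (.nil)) (.nil))))) (.node [528,1074,2421,2438] (.node [1926,2199] (.node [528,834,1941,2439] (.node [560,577,2165] (.node [800,1073,2439] (.nil) (.nil)) (.node [288,561,1685,1926] (.nil) (.nil))) (.node [800,1073,2405,2439] (.node [560,577,1669,2422] (.nil) (.nil)) (.nil))) (.node [528,1074,1669] (.node [1074,1941] (.node [1074,1942,2439] (.nil) (.nil)) (.nil)) (.node [2439] (.node [528,834,1685,2438] (.nil) (.nil))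 (.nil)))) (.node [800,1073,1669,1942] (.node [1074,2421,2198] (.node [1074,1685] (.node [1074,1893,2199] (.nil) (.nil)) (.nil)) (.node [288,561,1941,1926] (.node [528,1074,2439] (.nil) (.nil)) (.nil))) (.node [1669,2166] (.node [1074,2166,2439] (.node [1074,2199] (.nil) (.nil)) (.nil)) (.node [1653,2198] (.node [1685,2422] (.nil) (.nil)) (.nil))))))
  elts := .node [] (.node [528] (.node [1893] (.node [528,801] (.node [528,1653] (.node [304,801,1893] (.nil) (.nil)) (.nil)) (.node [304,801] (.nil) (.nil))) (.node [304] (.node [561,1893] (.node [304,801,1653] (.nil) (.nil)) (.nil)) (.node [528,801,1653] (.nil) (.nil)))) (.node [288,561] (.node [801,1893] (.node [528,801,1893] (.node [800,1653] (.nil) (.nil)) (.nil)) (.node [288,561,1653] (.nil) (.nil))) (.node [560] (.node [304,1893] (.nil) (.nil)) (.node [561,1653] (.nil) (.nil))))) (.node [801] (.node [288] (.node [561] (.node [800] (.node [560,1653] (.nil) (.nil)) (.nil)) (.node [560,1893]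 (.nil) (.nil))) (.node [288,1893] (.node [801,1653] (.nil) (.nil)) (.node [784,1893] (.nil) (.nil)))) (.node [528,1893] (.node [1653] (.node [784] (.node [784,1653] (.nil) (.nil)) (.nil)) (.node [800,1893] (.nil) (.nil))) (.node [288,561,1893] (.node [288,1653] (.nil) (.nil)) (.node [304,1653] (.nil) (.nil)))))
  chain := [(0,0),(1,0),(2,0),(0,1),(1,1),(2,1),(0,2),(1,2),(2,2),(2,3),(1,4),(2,4),(1,5),(2,5),(2,6),(0,7),(2,7),(0,8),(2,8),(2,9),(2,11),(2,12),(0,13),(2,13),(2,14),(2,16),(2,17),(2,18),(2,19),(2,21),(2,23),(2,24),(2,26),(2,28),(2,31)]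
  nrms := .node [] (.node [2436] (.nil) (.nil)) (.node [2196] (.nil) (.nil))
  nnrm := 3
  nfix := [[1,2,3],[1,2,3],[1,2,3]]
  terms := .node [(1,0),(1,1),(1,2),(1,3),(1,4)] (.node [(1,5),(1,6),(1,7),(1,8),(1,9)] (.node [(1,15),(1,16),(1,17),(1,18),(1,19)] (.node [(1,35),(1,36),(1,37),(1,38),(1,39)] (.node [(4,56),(4,57),(4,5),(1,60)] (.nil) (.nil)) (.nil)) (.node [(1,0),(1,25),(1,55),(1,30)] (.node [(1,0),(1,99),(1,100)] (.nil) (.nil)) (.nil))) (.node [(1,25),(1,26),(1,27),(1,28),(1,29)] (.node [(1,45),(1,46),(1,47),(1,48),(1,49)] (.node [(1,57),(1,5),(1,10),(1,20)] (.nil) (.nil)) (.nil)) (.node [(3,0),(4,59),(4,5),(4,6),(4,10),(2,11),(4,15),(2,60),(1,61),(2,62),(2,63),(2,20),(1,26),(2,64),(1,65),(4,36),(4,66),(2,67),(3,68),(2,69),(1,70),(4,21),(4,27),(3,28),(2,71),(4,16),(2,7),(1,38),(1,41),(1,72),(2,46),(3,32),(2,73),(1,74),(1,51),(1,23)] (.nil) (.nil)))) (.node [(1,10),(1,11),(1,12),(1,13),(1,14)] (.node [(1,20),(1,21),(1,22),(1,23),(1,24)]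 (.node [(1,40),(1,41),(1,42),(1,43),(1,44)] (.node [(1,0),(1,56),(4,10),(1,62)] (.nil) (.nil)) (.nil)) (.node [(1,56),(1,57),(1,58),(1,48)] (.node [(1,0)] (.nil) (.nil)) (.nil))) (.node [(1,30),(1,31),(1,32),(1,33),(1,34)] (.node [(1,50),(1,51),(1,52),(1,53),(1,54)] (.node [(1,0),(4,48)] (.nil) (.nil)) (.nil)) (.node [(3,0),(1,1),(2,59),(4,57),(1,5),(1,6),(4,10),(4,11),(2,15),(4,61),(2,62),(1,63),(4,20),(3,25),(1,26),(3,55),(4,66),(1,67),(2,69),(3,70),(2,21),(4,71),(1,17),(2,7),(2,38),(3,42),(3,46),(1,32)] (.nil) (.nil))))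
  steps := [fiveF3s0,fiveF3s1,fiveF3s2,fiveF3s3,fiveF3s4,fiveF3s5,fiveF3s6,fiveF3s7,fiveF3s8,fiveF3s9,fiveF3s10,fiveF3s11,fiveF3s12,fiveF3s13,fiveF3s14,fiveF3s15,fiveF3s16,fiveF3s17,fiveF3s18,fiveF3s19,fiveF3s20]
  nrep := 102
  rc := 0x946758321000000049657832100000008476593210000000675894103200000069785304210000005968730421000000567894103200000058679432100000008796530421000000975683042100000067589304210000005678930421000000795863042100000085697304210000005689714302000000798650432100000069785043210000006789514302000000876591430200000056978021430000006758902143000000586792431000000097568243100000008796524310000000697852431000000059687243100000006978514302000000678952431000000056897243100000005867914302000000976851430200000085976243100000008597614302000000598761430200000079865243100000007986514302000000586790432100000097568043210000008569704321000000856974321000000087596043210000008759643210000000598760432100000079865432100000006985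743210000000598764321000000097568432100000007568941032000000758963042100000075896043210000007589624310000000758961430200000089756021430000008956741032000000895673042100000089675243100000008967514302000000786950214300000078956304210000007856924310000000785691430200000078569432100000006897530421000000687592431000000068759143020000006875904321000000687594321000000095867021430000009567830421000000957862431000000095786143020000009567843210000000967583042100000096587243100000009658714302000000967580432100000096758432100000008695730421000000869570432100000086957243100000008695714302000000867954321000000057698043210000005786930421000000576982431000000057698143020000005798643210000000765981430200000076598243100000007685930421000000769850432100000076985432100000006579824310000000658793042100000065798143020000006598704321000000659874321000000098765143020000009857624310000000985763042100000098765043210000009876543210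
  xc := 0x986574012300000098657402310000009865740312000000986574201300000098576401230000009865741203000000986574213000000098576402310000009865742301000000985764031200000098657410320000009857642013000000987654012300000098657431020000009857641203000000986574132000000098576421300000009876540231000000985764230100000098765403120000009865743021000000985764103200000098765420130000009857643102000000987654120300000098657432100000009857641320000000987654213000000098765423010000009857643021000000987654103200000098765431020000009857643210000000987654132000000098765430210000009876543210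
  hc := 0x847659321000000049765832100000009876543210

theorem fiveF3_step0 : fiveF3.stepOk 0 fiveF3s0 = true := by decide +kernel

theorem fiveF3_step1 : fiveF3.stepOk 1 fiveF3s1 = true := by decide +kernel

theorem fiveF3_step2 : fiveF3.stepOk 2 fiveF3s2 = true := by decide +kernel

theorem fiveF3_step3 : fiveF3.stepOk 3 fiveF3s3 = true := by decide +kernel

theorem fiveF3_step4 : fiveF3.stepOk 4 fiveF3s4 = true := by decide +kernel

theorem fiveF3_step5 : fiveF3.stepOk 5 fiveF3s5 = true := by decide +kernel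

theorem fiveF3_step6 : fiveF3.stepOk 6 fiveF3s6 = true := by decide +kernel

theorem fiveF3_step7 : fiveF3.stepOk 7 fiveF3s7 = true := by decide +kernel

theorem fiveF3_step8 : fiveF3.stepOk 8 fiveF3s8 = true := by decide +kernel

theorem fiveF3_step9 : fiveF3.stepOk 9 fiveF3s9 = true := by decide +kernel

theorem fiveF3_step10 : fiveF3.stepOk 10 fiveF3s10 = true := by decide +kernel

theorem fiveF3_step11 : fiveF3.stepOk 11 fiveF3s11 = true := by decide +kernel

theorem fiveF3_step12 : fiveF3.stepOk 12 fiveF3s12 = true := by decide +kernel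

theorem fiveF3_step13 : fiveF3.stepOk 13 fiveF3s13 = true := by decide +kernel

theorem fiveF3_step14 : fiveF3.stepOk 14 fiveF3s14 = true := by decide +kernel

theorem fiveF3_step15 : fiveF3.stepOk 15 fiveF3s15 = true := by decide +kernel

theorem fiveF3_step16 : fiveF3.stepOk 16 fiveF3s16 = true := by decide +kernel

theorem fiveF3_step17 : fiveF3.stepOk 17 fiveF3s17 = true := by decide +kernel

theorem fiveF3_step18 : fiveF3.stepOk 18 fiveF3s18 = true := by decide +kernel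

theorem fiveF3_step19 : fiveF3.stepOk 19 fiveF3s19 = true := by decide +kernel

theorem fiveF3_step20 : fiveF3.stepOk 20 fiveF3s20 = true := by decide +kernel

theorem fiveF3_front : fiveF3.frontOk = true := by decide +kernel

theorem fiveF3_ok : fiveF3.check = true :=
  Stage.check_of _ fiveF3_front (
    Stage.stepsOk_cons _ fiveF3_step0 (
    Stage.stepsOk_cons _ fiveF3_step1 (
    Stage.stepsOk_cons _ fiveF3_step2 (
    Stage.stepsOk_cons _ fiveF3_step3 (
    Stage.stepsOk_cons _ fiveF3_step4 (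
    Stage.stepsOk_cons _ fiveF3_step5 (
    Stage.stepsOk_cons _ fiveF3_step6 (
    Stage.stepsOk_cons _ fiveF3_step7 (
    Stage.stepsOk_cons _ fiveF3_step8 (
    Stage.stepsOk_cons _ fiveF3_step9 (
    Stage.stepsOk_cons _ fiveF3_step10 (
    Stage.stepsOk_cons _ fiveF3_step11 (
    Stage.stepsOk_cons _ fiveF3_step12 (
    Stage.stepsOk_cons _ fiveF3_step13 (
    Stage.stepsOk_cons _ fiveF3_step14 (
    Stage.stepsOk_cons _ fiveF3_step15 (
    Stage.stepsOk_cons _ fiveF3_step16 (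
    Stage.stepsOk_cons _ fiveF3_step17 (
    Stage.stepsOk_cons _ fiveF3_step18 (
    Stage.stepsOk_cons _ fiveF3_step19 (
    Stage.stepsOk_cons _ fiveF3_step20 (
    (by decide +kernel)))))))))))))))))))))))

/-- certificate data -/
def fiveF4s0 : Step :=
  ⟨[(1,0),(1,1),(1,2)],[[528],[801],[1893]],[⟨654820257825,654820258320,[(0,1),(1,1),(2,1)],[]⟩,
   ⟨654820250400,654820258320,[(0,2),(1,2),(2,2)],[]⟩,
   ⟨654301213200,654820258320,[(1,0),(2,0),(0,0)],[]⟩]⟩

/-- certificate data -/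
def fiveF4s1 : Step :=
  ⟨[(1,3),(1,4),(1,5)],[[528],[801],[1893]],[⟨654820257825,654820258320,[(3,1),(4,1),(5,1)],[]⟩,
   ⟨654820250400,654820258320,[(3,2),(4,2),(5,2)],[]⟩,
   ⟨654301213200,654820258320,[(4,0),(5,0),(3,0)],[]⟩]⟩

/-- certificate data -/
def fiveF4s2 : Step :=
  ⟨[(1,6),(1,7),(1,8)],[[528],[801],[1893]],[⟨654820257825,654820258320,[(6,1),(7,1),(8,1)],[]⟩,
   ⟨654820250400,654820258320,[(6,2),(7,2),(8,2)],[]⟩,
   ⟨654301213200,654820258320,[(7,0),(8,0),(6,0)],[]⟩]⟩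

/-- certificate data -/
def fiveF4s3 : Step :=
  ⟨[(1,9),(1,10),(1,11)],[[528],[801],[1893]],[⟨654820257825,654820258320,[(9,1),(10,1),(11,1)],[]⟩,
   ⟨654820250400,654820258320,[(9,2),(10,2),(11,2)],[]⟩,
   ⟨654301213200,654820258320,[(10,0),(11,0),(9,0)],[]⟩]⟩

/-- certificate data -/
def fiveF4s4 : Step :=
  ⟨[(1,12),(1,13),(1,14)],[[528],[801],[1893]],[⟨654820257825,654820258320,[(12,1),(13,1),(14,1)],[]⟩,
   ⟨654820250400,654820258320,[(12,2),(13,2),(14,2)],[]⟩,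
   ⟨654301213200,654820258320,[(13,0),(14,0),(12,0)],[]⟩]⟩

/-- certificate data -/
def fiveF4s5 : Step :=
  ⟨[(1,15),(1,16),(1,17)],[[528],[801],[1893]],[⟨654820257825,654820258320,[(15,1),(16,1),(17,1)],[]⟩,
   ⟨654820250400,654820258320,[(15,2),(16,2),(17,2)],[]⟩,
   ⟨654301213200,654820258320,[(17,0),(15,0),(16,0)],[]⟩]⟩

/-- certificate data -/
def fiveF4s6 : Step :=
  ⟨[(1,18),(1,19),(1,20)],[[528],[801],[1893]],[⟨654820257825,654820258320,[(18,1),(19,1),(20,1)],[]⟩,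
   ⟨654820250400,654820258320,[(18,2),(19,2),(20,2)],[]⟩,
   ⟨654301213200,654820258320,[(19,0),(20,0),(18,0)],[]⟩]⟩

/-- certificate data -/
def fiveF4s7 : Step :=
  ⟨[(1,21),(1,22),(1,23)],[[528],[801],[1893]],[⟨654820257825,654820258320,[(21,1),(22,1),(23,1)],[]⟩,
   ⟨654820250400,654820258320,[(21,2),(22,2),(23,2)],[]⟩,
   ⟨654301213200,654820258320,[(22,0),(23,0),(21,0)],[]⟩]⟩

/-- certificate data -/
def fiveF4s8 : Step :=
  ⟨[(1,24),(1,25),(1,26)],[[528],[801],[1893]],[⟨654820257825,654820258320,[(24,1),(25,1),(26,1)],[]⟩,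
   ⟨654820250400,654820258320,[(24,2),(25,2),(26,2)],[]⟩,
   ⟨654301213200,654820258320,[(25,0),(26,0),(24,0)],[]⟩]⟩

/-- certificate data -/
def fiveF4s9 : Step :=
  ⟨[(1,27),(1,28),(1,29)],[[528],[801],[1893]],[⟨654820257825,654820258320,[(27,1),(28,1),(29,1)],[]⟩,
   ⟨654820250400,654820258320,[(27,2),(28,2),(29,2)],[]⟩,
   ⟨654301213200,654820258320,[(28,0),(29,0),(27,0)],[]⟩]⟩

/-- certificate data -/
def fiveF4s10 : Step :=
  ⟨[(1,30),(1,31),(1,32)],[[528],[801],[1893]],[⟨654820257825,654820258320,[(30,1),(31,1),(32,1)],[]⟩,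
   ⟨654820250400,654820258320,[(30,2),(31,2),(32,2)],[]⟩,
   ⟨654301213200,654820258320,[(31,0),(32,0),(30,0)],[]⟩]⟩

/-- certificate data -/
def fiveF4s11 : Step :=
  ⟨[(1,33),(1,34),(1,35)],[[528],[801],[1893]],[⟨654820257825,654820258320,[(33,1),(34,1),(35,1)],[]⟩,
   ⟨654820250400,654820258320,[(33,2),(34,2),(35,2)],[]⟩,
   ⟨654301213200,654820258320,[(34,0),(35,0),(33,0)],[]⟩]⟩

/-- certificate data -/
def fiveF4s12 : Step :=
  ⟨[(1,36),(1,37),(1,38)],[[528],[801],[1893]],[⟨654820257825,654820258320,[(36,1),(37,1),(38,1)],[]⟩,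
   ⟨654820250400,654820258320,[(36,2),(37,2),(38,2)],[]⟩,
   ⟨654301213200,654820258320,[(37,0),(38,0),(36,0)],[]⟩]⟩

/-- certificate data -/
def fiveF4s13 : Step :=
  ⟨[(1,39),(1,40),(1,41)],[[528],[801],[1893]],[⟨654820257825,654820258320,[(39,1),(40,1),(41,1)],[]⟩,
   ⟨654820250400,654820258320,[(39,2),(40,2),(41,2)],[]⟩,
   ⟨654301213200,654820258320,[(40,0),(41,0),(39,0)],[]⟩]⟩

/-- certificate data -/
def fiveF4s14 : Step :=
  ⟨[(1,42),(1,43),(1,44)],[[528],[801],[1893]],[⟨654820257825,654820258320,[(42,1),(43,1),(44,1)],[]⟩,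
   ⟨654820250400,654820258320,[(42,2),(43,2),(44,2)],[]⟩,
   ⟨654301213200,654820258320,[(43,0),(44,0),(42,0)],[]⟩]⟩

/-- certificate data -/
def fiveF4s15 : Step :=
  ⟨[(1,45),(1,46),(1,47)],[[528],[801],[1893]],[⟨654820257825,654820258320,[(45,1),(46,1),(47,1)],[]⟩,
   ⟨654820250400,654820258320,[(45,2),(46,2),(47,2)],[]⟩,
   ⟨654301213200,654820258320,[(46,0),(47,0),(45,0)],[]⟩]⟩

/-- certificate data -/
def fiveF4s16 : Step :=
  ⟨[(1,48),(1,49),(1,50)],[[528],[801],[1893]],[⟨654820257825,654820258320,[(48,1),(49,1),(50,1)],[]⟩,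
   ⟨654820250400,654820258320,[(48,2),(49,2),(50,2)],[]⟩,
   ⟨654301213200,654820258320,[(49,0),(50,0),(48,0)],[]⟩]⟩

/-- certificate data -/
def fiveF4s17 : Step :=
  ⟨[(1,0)],[],[⟨0,0,[],[⟨2,[2149,2199],376218858000,12,0,[(51,0),(17,0),(19,0)]⟩,
    ⟨4,[1653,1942],448177386000,1,0,[(17,0),(27,0),(35,0)]⟩,
    ⟨2,[1685,2438],371390165520,11,0,[(10,0),(51,0),(22,0)]⟩,
    ⟨4,[2405],379993731600,16,0,[(19,0),(13,0),(22,0)]⟩,
    ⟨1,[2405],379993731600,14,0,[(45,0),(52,0),(32,0)]⟩,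
    ⟨2,[1685,2438],371390165520,7,0,[(53,0),(35,0),(32,0)]⟩,
    ⟨4,[1685,1926],443867738640,13,0,[(29,0),(2,0),(20,0)]⟩,
    ⟨1,[],654820258320,9,0,[(27,0),(28,0),(29,0)]⟩,
    ⟨4,[1685,2438],371390165520,13,0,[(28,0),(1,0),(19,0)]⟩,
    ⟨1,[],654820258320,0,0,[(0,0),(1,0),(2,0)]⟩,
    ⟨4,[2149],641969959440,2,0,[(53,0),(20,0),(52,0)]⟩,
    ⟨3,[2149],641969959440,10,0,[(10,0),(17,0),(13,0)]⟩,
    ⟨1,[1653,1942],448177386000,7,0,[(13,0),(18,0),(50,0)]⟩,
    ⟨4,[2405],379993731600,6,0,[(21,0),(14,0),(50,0)]⟩,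
    ⟨2,[],654820258320,4,0,[(12,0),(13,0),(14,0)]⟩,
    ⟨1,[],654820258320,10,0,[(30,0),(31,0),(32,0)]⟩,
    ⟨4,[1926],650290410000,3,0,[(14,0),(17,0),(31,0)]⟩,
    ⟨1,[1942],517163201040,1,0,[(16,0),(28,0),(33,0)]⟩,
    ⟨4,[1685,1926],443867738640,7,0,[(54,0),(33,0),(30,0)]⟩,
    ⟨2,[1685,2438],371390165520,14,0,[(20,0),(16,0),(55,0)]⟩,
    ⟨4,[1685,2438],371390165520,9,0,[(12,0),(39,0),(45,0)]⟩,
    ⟨3,[2149,2199],376218858000,10,0,[(0,0),(27,0),(18,0)]⟩,
    ⟨4,[2149],641969959440,12,0,[(39,0),(35,0),(49,0)]⟩,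
    ⟨1,[2149,2199],376218858000,9,0,[(49,0),(55,0),(32,0)]⟩,
    ⟨1,[2405],379993731600,13,0,[(54,0),(25,0),(51,0)]⟩,
    ⟨4,[2149],641969959440,14,0,[(22,0),(28,0),(25,0)]⟩,
    ⟨2,[],654820258320,5,0,[(15,0),(16,0),(17,0)]⟩,
    ⟨3,[1926],650290410000,10,0,[(9,0),(15,0),(12,0)]⟩,
    ⟨2,[2405],379993731600,8,0,[(53,0),(55,0),(39,0)]⟩,
    ⟨2,[1685,1926],443867738640,15,0,[(27,0),(9,0),(53,0)]⟩,
    ⟨1,[1942],517163201040,16,0,[(18,0),(12,0),(21,0)]⟩]⟩]⟩

/-- certificate data -/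
def fiveF4 : Stage where
  n := 10
  p := 5
  gens := [[528],[801]]
  facts := [[[528],[801],[1893]]]
  reps := .node [] (.node [1893] (.node [2149] (.node [1653,1942] (.node [1685,2438] (.node [1941,2439] (.nil) (.nil)) (.node [1893,2166] (.nil) (.nil))) (.node [2166,2439] (.node [1925,2199] (.nil) (.nil)) (.node [1669,2166] (.nil) (.nil)))) (.node [1685,2422] (.node [2405,2199] (.node [2421,2438] (.nil) (.nil)) (.node [1925] (.nil) (.nil))) (.node [2438] (.node [2439] (.nil) (.nil)) (.nil)))) (.node [1926] (.node [1685] (.node [1685,1926] (.node [1926,2199] (.nil) (.nil)) (.node [1893,2199] (.nil) (.nil))) (.node [2437,2422] (.node [1925,2422] (.nil) (.nil)) (.nil))) (.node [2197,2166] (.node [2149,2438] (.node [2421] (.nil) (.nil)) (.node [1669,2198] (.nil) (.nil))) (.node [1653,2438] (.node [2165] (.nil) (.nil)) (.nil))))) (.node [1653] (.node [1653,1926] (.node [1942] (.node [1941,1926] (.node [1685,2166] (.nil) (.nil)) (.node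 [2199] (.nil) (.nil))) (.node [2437] (.node [1669,2422] (.nil) (.nil)) (.nil))) (.node [2197] (.node [1653,2198] (.node [1893,2422] (.nil) (.nil)) (.node [2405,2439] (.nil) (.nil))) (.node [2149,2439] (.node [1893,2439] (.nil) (.nil)) (.nil)))) (.node [2405] (.node [1941] (.node [2198] (.node [2149,2199] (.nil) (.nil)) (.node [2421,2198] (.nil) (.nil))) (.node [2437,1942] (.node [2165,2438] (.nil) (.nil)) (.nil))) (.node [2197,1926] (.node [2165,2439] (.node [2422] (.nil) (.nil)) (.node [1669,1942] (.nil) (.nil))) (.node [1941,2166] (.node [2166] (.nil) (.nil)) (.nil)))))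
  elts := .node [] (.node [528] (.node [288] (.node [304] (.nil) (.nil)) (.node [304,801] (.nil) (.nil))) (.node [528,801] (.node [800] (.nil) (.nil)) (.nil))) (.node [801] (.node [288,561] (.node [560] (.nil) (.nil)) (.nil)) (.node [561] (.node [784] (.nil) (.nil)) (.nil)))
  chain := [(0,0),(1,0),(0,1),(1,1),(0,2),(1,2),(1,3),(1,4),(0,5),(0,6),(0,8)]
  nrms := .node [] (.nil) (.nil)
  nnrm := 1
  nfix := [[1,2]]
  terms := .node [(1,0),(1,1),(1,2)] (.node [(1,3),(1,4),(1,5)] (.node [(1,9),(1,10),(1,11)] (.node [(1,21),(1,22),(1,23)] (.node [(1,45),(1,46),(1,47)] (.nil) (.nil)) (.nil)) (.node [(1,33),(1,34),(1,35)] (.nil) (.nil))) (.node [(1,15),(1,16),(1,17)] (.node [(1,27),(1,28),(1,29)] (.node [(1,0)] (.nil) (.nil)) (.nil)) (.node [(1,39),(1,40),(1,41)] (.nil) (.nil)))) (.node [(1,6),(1,7),(1,8)] (.node [(1,12),(1,13),(1,14)] (.node [(1,24),(1,25),(1,26)] (.node [(1,48),(1,49),(1,50)] (.nil) (.nil)) (.nil)) (.node [(1,36),(1,37),(1,38)]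 (.nil) (.nil))) (.node [(1,18),(1,19),(1,20)] (.node [(1,30),(1,31),(1,32)] (.nil) (.nil)) (.node [(1,42),(1,43),(1,44)] (.nil) (.nil))))
  steps := [fiveF4s0,fiveF4s1,fiveF4s2,fiveF4s3,fiveF4s4,fiveF4s5,fiveF4s6,fiveF4s7,fiveF4s8,fiveF4s9,fiveF4s10,fiveF4s11,fiveF4s12,fiveF4s13,fiveF4s14,fiveF4s15,fiveF4s16,fiveF4s17]
  nrep := 56
  rc := 0x95678432100000007659843210000000657984321000000075896432100000009756843210000000869574321000000085976432100000008796543210000000978564321000000096875432100000009586743210000000598764321000000079865432100000006985743210000000679584321000000056978432100000007596843210000000689754321000000058967432100000007895643210000000659874321000000057986432100000007698543210000000658794321000000057869432100000007685943210000000596874321000000079586432100000006978543210000000796584321000000069578432100000005976843210000000896754321000000089567432100000008975643210000000856974321000000087596432100000008679543210000000675894321000000075689432100000005678943210000000876594321000000086579432100000008576943210000000586794321000000078569432100000006875943210000000786954321000000068597432100000005879643210000000976854321000000096587432100000009578643210000000986574321000000098576432100000009876543210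
  xc := 0x987654012300000098765402310000009876540312000000987654201300000098765412030000009876542130000000987654230100000098765410320000009876543102000000987654132000000098765430210000009876543210
  hc := 0x9876543210

theorem fiveF4_step0 : fiveF4.stepOk 0 fiveF4s0 = true := by decide +kernel

theorem fiveF4_step1 : fiveF4.stepOk 1 fiveF4s1 = true := by decide +kernel

theorem fiveF4_step2 : fiveF4.stepOk 2 fiveF4s2 = true := by decide +kernel

theorem fiveF4_step3 : fiveF4.stepOk 3 fiveF4s3 = true := by decide +kernel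

theorem fiveF4_step4 : fiveF4.stepOk 4 fiveF4s4 = true := by decide +kernel

theorem fiveF4_step5 : fiveF4.stepOk 5 fiveF4s5 = true := by decide +kernel

theorem fiveF4_step6 : fiveF4.stepOk 6 fiveF4s6 = true := by decide +kernel

theorem fiveF4_step7 : fiveF4.stepOk 7 fiveF4s7 = true := by decide +kernel

theorem fiveF4_step8 : fiveF4.stepOk 8 fiveF4s8 = true := by decide +kernel

theorem fiveF4_step9 : fiveF4.stepOk 9 fiveF4s9 = true := by decide +kernel

theorem fiveF4_step10 : fiveF4.stepOk 10 fiveF4s10 = true := by decide +kernel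

theorem fiveF4_step11 : fiveF4.stepOk 11 fiveF4s11 = true := by decide +kernel

theorem fiveF4_step12 : fiveF4.stepOk 12 fiveF4s12 = true := by decide +kernel

theorem fiveF4_step13 : fiveF4.stepOk 13 fiveF4s13 = true := by decide +kernel

theorem fiveF4_step14 : fiveF4.stepOk 14 fiveF4s14 = true := by decide +kernel

theorem fiveF4_step15 : fiveF4.stepOk 15 fiveF4s15 = true := by decide +kernel

theorem fiveF4_step16 : fiveF4.stepOk 16 fiveF4s16 = true := by decide +kernel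

theorem fiveF4_step17 : fiveF4.stepOk 17 fiveF4s17 = true := by decide +kernel

theorem fiveF4_front : fiveF4.frontOk = true := by decide +kernel

theorem fiveF4_ok : fiveF4.check = true :=
  Stage.check_of _ fiveF4_front (
    Stage.stepsOk_cons _ fiveF4_step0 (
    Stage.stepsOk_cons _ fiveF4_step1 (
    Stage.stepsOk_cons _ fiveF4_step2 (
    Stage.stepsOk_cons _ fiveF4_step3 (
    Stage.stepsOk_cons _ fiveF4_step4 (
    Stage.stepsOk_cons _ fiveF4_step5 (
    Stage.stepsOk_cons _ fiveF4_step6 (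
    Stage.stepsOk_cons _ fiveF4_step7 (
    Stage.stepsOk_cons _ fiveF4_step8 (
    Stage.stepsOk_cons _ fiveF4_step9 (
    Stage.stepsOk_cons _ fiveF4_step10 (
    Stage.stepsOk_cons _ fiveF4_step11 (
    Stage.stepsOk_cons _ fiveF4_step12 (
    Stage.stepsOk_cons _ fiveF4_step13 (
    Stage.stepsOk_cons _ fiveF4_step14 (
    Stage.stepsOk_cons _ fiveF4_step15 (
    Stage.stepsOk_cons _ fiveF4_step16 (
    Stage.stepsOk_cons _ fiveF4_step17 (
    (by decide +kernel))))))))))))))))))))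

/-- certificate data -/
def fiveF5s0 : Step :=
  ⟨[(1,0),(1,1),(1,2),(1,3)],[[528],[801]],[⟨654820257825,654820258320,[(0,1),(2,2),(3,0),(1,5)],[]⟩,
   ⟨654820250400,654820258320,[(2,6),(1,3),(3,1),(0,5)],[]⟩]⟩

/-- certificate data -/
def fiveF5s1 : Step :=
  ⟨[(1,4),(1,5),(1,6),(1,7)],[[528],[801]],[⟨654820257825,654820258320,[(5,0),(6,6),(4,7),(7,5)],[]⟩,
   ⟨654820250400,654820258320,[(7,3),(5,2),(4,4),(6,5)],[]⟩]⟩

/-- certificate data -/
def fiveF5s2 : Step :=
  ⟨[(1,8),(1,9),(1,10),(1,11)],[[528],[801]],[⟨654820257825,654820258320,[(9,0),(11,3),(10,3),(8,1)],[]⟩,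
   ⟨654820250400,654820258320,[(9,3),(10,3),(8,3),(11,1)],[]⟩]⟩

/-- certificate data -/
def fiveF5s3 : Step :=
  ⟨[(1,12),(1,13),(1,14),(1,15)],[[528],[801]],[⟨654820257825,654820258320,[(13,0),(14,0),(12,0),(15,2)],[]⟩,
   ⟨654820250400,654820258320,[(15,0),(13,5),(12,2),(14,5)],[]⟩]⟩

/-- certificate data -/
def fiveF5s4 : Step :=
  ⟨[(1,0),(1,16),(1,4),(1,5),(1,17),(1,18),(1,8),(1,10),(1,19),(1,12),(1,13),(1,20),(1,21),(1,22),(1,23),(1,2),(1,24),(1,25),(1,26),(1,27)],[[800,1073],[320,1105]],[⟨654820066050,654820258320,[(8,3),(21,3),(24,3),(16,2),(10,0),(26,3),(18,3),(2,6),(25,5),(20,5),(19,5),(5,4),(12,5),(17,8),(22,1),(23,1),(13,0),(4,7),(27,3),(0,1)],[]⟩,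
   ⟨654815801940,654820258320,[(4,0),(19,2),(0,0),(27,4),(13,6),(8,5),(18,2),(12,0),(16,5),(10,0),(17,7),(24,8),(22,5),(21,2),(2,2),(23,5),(20,4),(26,3),(25,1),(5,8)],[]⟩]⟩

/-- certificate data -/
def fiveF5s5 : Step :=
  ⟨[(1,1),(1,28),(1,29),(1,30),(1,31),(1,32),(1,33),(1,34),(1,35),(1,9),(1,11),(1,36),(1,14),(1,37),(1,6),(1,7),(1,38),(1,3),(1,39),(1,15)],[[800,1073],[320,1105]],[⟨654820066050,654820258320,[(35,3),(9,3),(30,2),(7,8),(36,3),(11,1),(3,6),(1,0),(28,0),(34,3),(38,6),(15,2),(39,5),(31,4),(37,5),(14,5),(33,8),(32,8),(29,7),(6,5)],[]⟩,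
   ⟨654815801940,654820258320,[(36,0),(29,1),(28,3),(11,0),(33,2),(34,6),(31,5),(32,7),(38,5),(7,2),(30,0),(1,0),(39,4),(6,1),(37,3),(9,5),(35,2),(15,4),(14,8),(3,8)],[]⟩]⟩

/-- certificate data -/
def fiveF5s6 : Step :=
  ⟨[(1,0)],[],[⟨0,0,[],[⟨2,[],654820258320,4,0,[(0,0),(16,0),(4,0),(5,0),(17,0),(18,0),(8,0),(10,0),(19,0),(12,0),(13,0),(20,0),(21,0),(22,0),(23,0),(2,0),(24,0),(25,0),(26,0),(27,0)]⟩,
    ⟨4,[336,833],654815986245,2,0,[(29,1),(13,4),(4,0),(34,6)]⟩,
    ⟨1,[336,833],654815986245,1,0,[(11,2),(24,7),(26,8),(3,8)]⟩,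
    ⟨4,[593],654817112400,2,0,[(3,5),(21,0),(37,0),(20,3)]⟩,
    ⟨4,[336,833],654815986245,0,0,[(12,0),(32,5),(31,6),(5,4)]⟩,
    ⟨2,[336,1345],654814818885,2,0,[(36,5),(15,4),(4,5),(23,7)]⟩,
    ⟨2,[336,577],654815932485,3,0,[(0,7),(19,1),(33,1),(11,7)]⟩,
    ⟨2,[593],654817112400,3,0,[(33,3),(32,8),(4,8),(18,6)]⟩,
    ⟨1,[1296],654815015505,0,0,[(16,0),(36,5),(11,6),(20,4)]⟩,
    ⟨4,[288,849],654818148690,1,0,[(26,0),(18,2),(15,8),(35,7)]⟩,
    ⟨2,[1040],654819996225,1,0,[(31,0),(39,8),(13,0),(21,0)]⟩,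
    ⟨3,[288,849],654818148690,2,0,[(0,6),(29,4),(16,4),(39,3)]⟩,
    ⟨4,[1296],654815015505,1,0,[(32,0),(27,2),(13,3),(38,0)]⟩,
    ⟨1,[288,577],654820061250,1,0,[(37,6),(16,0),(14,0),(24,0)]⟩,
    ⟨2,[784],654820246065,4,0,[(1,0),(30,0),(4,2),(6,3),(26,0),(32,0),(10,0),(11,0),(36,0),(12,5),(14,2),(21,0),(37,0),(35,7),(34,7),(0,8),(25,0),(39,0),(38,6),(22,6)]⟩,
    ⟨4,[336,577],654815932485,2,0,[(21,5),(15,7),(5,5),(38,7)]⟩,
    ⟨3,[288,833],654820180290,3,0,[(24,2),(36,0),(7,0),(21,5)]⟩,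
    ⟨3,[528],654820257825,5,0,[(2,2),(32,3),(39,8),(25,8),(37,6),(17,0),(34,0),(27,0),(26,0),(11,3),(8,1),(21,0),(12,0),(19,0),(4,7),(7,5),(22,0),(1,5),(16,4),(15,2)]⟩,
    ⟨4,[336,577],654815932485,0,0,[(13,2),(35,5),(25,7),(7,0)]⟩,
    ⟨2,[336,1345],654814818885,0,0,[(12,2),(18,5),(30,3),(7,2)]⟩,
    ⟨4,[],654820258320,3,0,[(12,0),(13,0),(14,0),(15,0)]⟩,
    ⟨1,[848,577],654818017605,1,0,[(11,6),(30,3),(23,1),(2,7)]⟩,
    ⟨4,[288,593],654816063570,2,0,[(2,5),(36,0),(31,7),(25,3)]⟩,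
    ⟨3,[1040,1106],654814885185,0,0,[(6,4),(15,4),(24,5),(22,5)]⟩,
    ⟨3,[577],654820127040,1,0,[(19,6),(29,0),(12,0),(36,0)]⟩,
    ⟨1,[288,833],654820180290,0,0,[(33,3),(27,0),(10,5),(34,7)]⟩,
    ⟨3,[1040,1106],654814885185,2,0,[(20,7),(26,2),(14,1),(7,7)]⟩]⟩]⟩

/-- certificate data -/
def fiveF5 : Stage where
  n := 10
  p := 5
  gens := [[528],[1347]]
  facts := [[[528],[801]],[[800,1073],[320,1105]]]
  reps := .node [] (.node [784] (.node [1329,1106] (.node [592,561,834] (.node [592,577,1074] (.node [1105] (.nil) (.nil)) (.nil)) (.node [1056,1329] (.node [848,1074] (.nil) (.nil)) (.nil))) (.node [1072] (.node [848,1347] (.node [320,561] (.nil) (.nil)) (.nil)) (.node [832,561] (.nil) (.nil)))) (.node [320,593] (.node [784,1074] (.node [576] (.node [832] (.nil) (.nil)) (.nil)) (.node [336,1074] (.nil) (.nil))) (.node [592,833] (.node [592,1073] (.node [592,801,1074] (.nil) (.nil)) (.nil)) (.node [288,593] (.nil) (.nil))))) (.node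 [288,1329,1106] (.node [320,1105] (.node [1073] (.node [1296] (.node [320] (.nil) (.nil)) (.nil)) (.node [336,1073,1106] (.nil) (.nil))) (.node [336,833] (.node [592,1074] (.node [336,1073] (.nil) (.nil)) (.nil)) (.node [1040] (.nil) (.nil)))) (.node [592,834] (.node [784,1073] (.node [320,1073] (.node [832,801] (.nil) (.nil)) (.nil)) (.node [576,561] (.nil) (.nil))) (.node [336,833,850] (.node [784,834,1107] (.node [1329,1346] (.nil) (.nil)) (.nil)) (.node [304,849] (.nil) (.nil)))))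
  elts := .node [] (.node [528] (.node [288] (.node [528,1107] (.nil) (.nil)) (.nil)) (.node [1107] (.nil) (.nil))) (.node [1347] (.node [528,1347] (.node [288,1107] (.nil) (.nil)) (.nil)) (.node [288,1347] (.nil) (.nil)))
  chain := [(0,0),(1,0),(0,1),(1,1),(1,2),(1,3),(1,4),(1,6)]
  nrms := .node [] (.nil) (.nil)
  nnrm := 1
  nfix := [[1,2]]
  terms := .node [(1,0),(1,1),(1,2),(1,3)] (.node [(1,4),(1,5),(1,6),(1,7)] (.node [(1,12),(1,13),(1,14),(1,15)] (.nil) (.nil)) (.node [(1,1),(1,28),(1,29),(1,30),(1,31),(1,32),(1,33),(1,34),(1,35),(1,9),(1,11),(1,36),(1,14),(1,37),(1,6),(1,7),(1,38),(1,3),(1,39),(1,15)] (.nil) (.nil))) (.node [(1,8),(1,9),(1,10),(1,11)] (.node [(1,0),(1,16),(1,4),(1,5),(1,17),(1,18),(1,8),(1,10),(1,19),(1,12),(1,13),(1,20),(1,21),(1,22),(1,23),(1,2),(1,24),(1,25),(1,26),(1,27)] (.nil) (.nil)) (.node [(1,0)] (.nil) (.nil)))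
  steps := [fiveF5s0,fiveF5s1,fiveF5s2,fiveF5s3,fiveF5s4,fiveF5s5,fiveF5s6]
  nrep := 40
  rc := 0x9876324015000000987621543000000098762341050000009876104235000000987651203400000098765310240000009876530214000000987651320400000098764132500000009876140253000000987614305200000098765032410000009876532104000000987652013400000098761243050000009876024135000000987610543200000098760254310000009876214035000000987620431500000098760342150000009876501234000000987652301400000098760432510000009876210345000000987603214500000098762310450000009876130245000000987650421300000098765342010000009876524031000000987651423000000098762014350000009876230415000000987621305400000098761032540000009876425130000000987641503200000098765402310000009876543210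
  xc := 0x987643510200000098764350210000009876354102000000987643521000000098763540210000009876543102000000987635421000000098765430210000009876543210
  hc := 0x9876543210

theorem fiveF5_step0 : fiveF5.stepOk 0 fiveF5s0 = true := by decide +kernel

theorem fiveF5_step1 : fiveF5.stepOk 1 fiveF5s1 = true := by decide +kernel

theorem fiveF5_step2 : fiveF5.stepOk 2 fiveF5s2 = true := by decide +kernel

theorem fiveF5_step3 : fiveF5.stepOk 3 fiveF5s3 = true := by decide +kernel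

theorem fiveF5_step4 : fiveF5.stepOk 4 fiveF5s4 = true := by decide +kernel

theorem fiveF5_step5 : fiveF5.stepOk 5 fiveF5s5 = true := by decide +kernel

theorem fiveF5_step6 : fiveF5.stepOk 6 fiveF5s6 = true := by decide +kernel

theorem fiveF5_front : fiveF5.frontOk = true := by decide +kernel

theorem fiveF5_ok : fiveF5.check = true :=
  Stage.check_of _ fiveF5_front (
    Stage.stepsOk_cons _ fiveF5_step0 (
    Stage.stepsOk_cons _ fiveF5_step1 (
    Stage.stepsOk_cons _ fiveF5_step2 (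
    Stage.stepsOk_cons _ fiveF5_step3 (
    Stage.stepsOk_cons _ fiveF5_step4 (
    Stage.stepsOk_cons _ fiveF5_step5 (
    Stage.stepsOk_cons _ fiveF5_step6 (
    (by decide +kernel)))))))))

/-- certificate data -/
def fiveF6s0 : Step :=
  ⟨[(1,0),(1,1),(1,2)],[[528],[1347]],[⟨654820257825,654820258320,[(0,1),(1,1),(2,1)],[]⟩,
   ⟨654818230800,654820258320,[(1,0),(2,0),(0,0)],[]⟩]⟩

/-- certificate data -/
def fiveF6s1 : Step :=
  ⟨[(1,3),(1,4),(1,5)],[[528],[1347]],[⟨654820257825,654820258320,[(3,1),(4,1),(5,1)],[]⟩,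
   ⟨654818230800,654820258320,[(4,0),(5,0),(3,0)],[]⟩]⟩

/-- certificate data -/
def fiveF6s2 : Step :=
  ⟨[(1,6),(1,7),(1,8)],[[528],[1347]],[⟨654820257825,654820258320,[(6,1),(7,1),(8,1)],[]⟩,
   ⟨654818230800,654820258320,[(7,0),(8,0),(6,0)],[]⟩]⟩

/-- certificate data -/
def fiveF6s3 : Step :=
  ⟨[(1,9),(1,10),(1,11)],[[528],[1347]],[⟨654820257825,654820258320,[(9,1),(10,1),(11,1)],[]⟩,
   ⟨654818230800,654820258320,[(10,0),(11,0),(9,0)],[]⟩]⟩

/-- certificate data -/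
def fiveF6s4 : Step :=
  ⟨[(1,12),(1,13),(1,14)],[[528],[1347]],[⟨654820257825,654820258320,[(12,1),(13,1),(14,1)],[]⟩,
   ⟨654818230800,654820258320,[(13,0),(14,0),(12,0)],[]⟩]⟩

/-- certificate data -/
def fiveF6s5 : Step :=
  ⟨[(1,15),(1,16),(1,17)],[[528],[1347]],[⟨654820257825,654820258320,[(15,1),(16,1),(17,1)],[]⟩,
   ⟨654818230800,654820258320,[(17,0),(15,0),(16,0)],[]⟩]⟩

/-- certificate data -/
def fiveF6s6 : Step :=
  ⟨[(1,18),(1,19),(1,20)],[[528],[1347]],[⟨654820257825,654820258320,[(18,1),(19,1),(20,1)],[]⟩,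
   ⟨654818230800,654820258320,[(19,0),(20,0),(18,0)],[]⟩]⟩

/-- certificate data -/
def fiveF6s7 : Step :=
  ⟨[(1,21),(1,22),(1,23)],[[528],[1347]],[⟨654820257825,654820258320,[(21,1),(22,1),(23,1)],[]⟩,
   ⟨654818230800,654820258320,[(22,0),(23,0),(21,0)],[]⟩]⟩

/-- certificate data -/
def fiveF6s8 : Step :=
  ⟨[(1,24),(1,25),(1,26)],[[528],[1347]],[⟨654820257825,654820258320,[(24,1),(25,1),(26,1)],[]⟩,
   ⟨654818230800,654820258320,[(25,0),(26,0),(24,0)],[]⟩]⟩

/-- certificate data -/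
def fiveF6s9 : Step :=
  ⟨[(1,27),(1,28),(1,29)],[[528],[1347]],[⟨654820257825,654820258320,[(27,1),(28,1),(29,1)],[]⟩,
   ⟨654818230800,654820258320,[(28,0),(29,0),(27,0)],[]⟩]⟩

/-- certificate data -/
def fiveF6s10 : Step :=
  ⟨[(1,30),(1,31),(1,32)],[[528],[1347]],[⟨654820257825,654820258320,[(30,1),(31,1),(32,1)],[]⟩,
   ⟨654818230800,654820258320,[(31,0),(32,0),(30,0)],[]⟩]⟩

/-- certificate data -/
def fiveF6s11 : Step :=
  ⟨[(1,33),(1,34),(1,35)],[[528],[1347]],[⟨654820257825,654820258320,[(33,1),(34,1),(35,1)],[]⟩,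
   ⟨654818230800,654820258320,[(34,0),(35,0),(33,0)],[]⟩]⟩

/-- certificate data -/
def fiveF6s12 : Step :=
  ⟨[(1,36),(1,37),(1,38)],[[528],[1347]],[⟨654820257825,654820258320,[(36,1),(37,1),(38,1)],[]⟩,
   ⟨654818230800,654820258320,[(37,0),(38,0),(36,0)],[]⟩]⟩

/-- certificate data -/
def fiveF6s13 : Step :=
  ⟨[(1,39),(1,40),(1,41)],[[528],[1347]],[⟨654820257825,654820258320,[(39,1),(40,1),(41,1)],[]⟩,
   ⟨654818230800,654820258320,[(40,0),(41,0),(39,0)],[]⟩]⟩

/-- certificate data -/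
def fiveF6s14 : Step :=
  ⟨[(1,42),(1,43),(1,44)],[[528],[1347]],[⟨654820257825,654820258320,[(42,1),(43,1),(44,1)],[]⟩,
   ⟨654818230800,654820258320,[(43,0),(44,0),(42,0)],[]⟩]⟩

/-- certificate data -/
def fiveF6s15 : Step :=
  ⟨[(1,45),(1,46),(1,47)],[[528],[1347]],[⟨654820257825,654820258320,[(45,1),(46,1),(47,1)],[]⟩,
   ⟨654818230800,654820258320,[(46,0),(47,0),(45,0)],[]⟩]⟩

/-- certificate data -/
def fiveF6s16 : Step :=
  ⟨[(1,0)],[],[⟨0,0,[],[⟨2,[],654820258320,10,0,[(30,0),(31,0),(32,0)]⟩,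
    ⟨2,[1107,1396],654013059600,5,0,[(25,0),(31,0),(3,0)]⟩,
    ⟨3,[1603,1653],653731971600,1,0,[(37,0),(11,0),(41,0)]⟩,
    ⟨2,[1380],654802563600,8,0,[(20,0),(22,0),(41,0)]⟩,
    ⟨1,[1107,1396],654013059600,4,0,[(48,0),(18,0),(49,0)]⟩,
    ⟨4,[1603,1653],653731971600,8,0,[(49,0),(46,0),(29,0)]⟩,
    ⟨4,[1139,1380],653996225040,3,0,[(48,0),(31,0),(44,0)]⟩,
    ⟨4,[1603],654770061840,14,0,[(4,0),(1,0),(45,0)]⟩,
    ⟨1,[1107,1380],654784746000,1,0,[(45,0),(0,0),(42,0)]⟩,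
    ⟨4,[1107,1396],654013059600,11,0,[(11,0),(8,0),(2,0)]⟩,
    ⟨1,[1396],654282535440,3,0,[(2,0),(7,0),(34,0)]⟩,
    ⟨1,[1139,1892],653713109520,9,0,[(8,0),(5,0),(20,0)]⟩,
    ⟨4,[1603],654770061840,15,0,[(5,0),(43,0),(0,0)]⟩,
    ⟨3,[1139,1892],653713109520,0,0,[(15,0),(37,0),(50,0)]⟩,
    ⟨4,[1139,1892],653713109520,11,0,[(51,0),(4,0),(13,0)]⟩,
    ⟨1,[1107,1396],654013059600,7,0,[(51,0),(47,0),(37,0)]⟩,
    ⟨3,[1139,1380],653996225040,15,0,[(32,0),(39,0),(7,0)]⟩,
    ⟨3,[1603],654770061840,13,0,[(19,0),(25,0),(22,0)]⟩,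
    ⟨2,[1139,1380],653996225040,13,0,[(52,0),(15,0),(47,0)]⟩,
    ⟨3,[1139,1892],653713109520,3,0,[(52,0),(30,0),(43,0)]⟩,
    ⟨1,[],654820258320,14,0,[(42,0),(43,0),(44,0)]⟩,
    ⟨2,[1603,1653],653731971600,0,0,[(31,0),(53,0),(28,0)]⟩,
    ⟨3,[],654820258320,9,0,[(27,0),(28,0),(29,0)]⟩,
    ⟨2,[1107,1396],654013059600,13,0,[(43,0),(50,0),(27,0)]⟩,
    ⟨3,[1107,1396],654013059600,12,0,[(53,0),(23,0),(46,0)]⟩,
    ⟨2,[1603],654770061840,8,0,[(18,0),(23,0),(39,0)]⟩,
    ⟨2,[1107,1380],654784746000,0,0,[(4,0),(47,0),(43,0)]⟩,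
    ⟨3,[1139,1380],653996225040,8,0,[(13,0),(37,0),(43,0)]⟩,
    ⟨1,[1859],653746717200,11,0,[(10,0),(7,0),(1,0)]⟩,
    ⟨4,[1107,1396],654013059600,2,0,[(10,0),(0,0),(34,0)]⟩,
    ⟨2,[],654820258320,6,0,[(18,0),(19,0),(20,0)]⟩,
    ⟨3,[1380],654802563600,5,0,[(11,0),(29,0),(13,0)]⟩,
    ⟨3,[1603],654770061840,0,0,[(3,0),(46,0),(42,0)]⟩]⟩]⟩

/-- certificate data -/
def fiveF6 : Stage where
  n := 10
  p := 5
  gens := [[528]]
  facts := [[[528],[1347]]]
  reps := .node [] (.node [1347] (.node [1603] (.node [1107,1396] (.node [1139,1892] (.node [1603,1653] (.nil) (.nil)) (.node [1123] (.nil) (.nil))) (.node [1891,1396] (.node [1619,1892] (.nil) (.nil)) (.nil))) (.node [1139,1876] (.node [1619,1893] (.node [1876] (.nil) (.nil)) (.node [1123,1396] (.nil) (.nil))) (.node [1395,1620] (.node [1620] (.nil) (.nil)) (.nil)))) (.node [1380] (.node [1139] (.node [1139,1380] (.node [1347,1876] (.nil) (.nil)) (.node [1347,1653] (.nil) (.nil))) (.node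 [1603,1893] (.node [1347,1893] (.nil) (.nil)) (.nil))) (.node [1651,1620] (.node [1891] (.node [1123,1876] (.nil) (.nil)) (.node [1379,1396] (.nil) (.nil))) (.node [1139,1620] (.node [1379] (.nil) (.nil)) (.nil))))) (.node [1107] (.node [1107,1380] (.node [1396] (.node [1395,1380] (.node [1875,1892] (.nil) (.nil)) (.node [1859,1653] (.nil) (.nil))) (.node [1892] (.node [1893] (.nil) (.nil)) (.nil))) (.node [1651] (.node [1620,1893] (.node [1379,1653] (.nil) (.nil)) (.node [1652] (.nil) (.nil))) (.node [1395,1893] (.node [1347,1620] (.nil) (.nil)) (.nil)))) (.node [1859] (.node [1395] (.node [1603,1892] (.node [1875] (.nil) (.nil)) (.node [1619,1652] (.nil) (.nil))) (.node [1107,1892] (.node [1619] (.nil) (.nil)) (.nil))) (.node [1651,1380] (.node [1891,1876] (.node [1379,1876] (.nil) (.nil)) (.nil)) (.node [1380,1653] (.node [1123,1620] (.nil) (.nil)) (.nil)))))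
  elts := .node [] (.node [528] (.nil) (.nil)) (.node [288] (.nil) (.nil))
  chain := [(0,0),(0,1)]
  nrms := .node [] (.nil) (.nil)
  nnrm := 1
  nfix := [[1]]
  terms := .node [(1,0),(1,1),(1,2)] (.node [(1,3),(1,4),(1,5)] (.node [(1,9),(1,10),(1,11)] (.node [(1,21),(1,22),(1,23)] (.node [(1,45),(1,46),(1,47)] (.nil) (.nil)) (.nil)) (.node [(1,33),(1,34),(1,35)] (.nil) (.nil))) (.node [(1,15),(1,16),(1,17)] (.node [(1,27),(1,28),(1,29)] (.nil) (.nil)) (.node [(1,39),(1,40),(1,41)] (.nil) (.nil)))) (.node [(1,6),(1,7),(1,8)] (.node [(1,12),(1,13),(1,14)] (.node [(1,24),(1,25),(1,26)] (.node [(1,0)] (.nil) (.nil)) (.nil)) (.node [(1,36),(1,37),(1,38)] (.nil) (.nil))) (.node [(1,18),(1,19),(1,20)] (.node [(1,30),(1,31),(1,32)] (.nil) (.nil)) (.node [(1,42),(1,43),(1,44)] (.nil) (.nil))))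
  steps := [fiveF6s0,fiveF6s1,fiveF6s2,fiveF6s3,fiveF6s4,fiveF6s5,fiveF6s6,fiveF6s7,fiveF6s8,fiveF6s9,fiveF6s10,fiveF6s11,fiveF6s12,fiveF6s13,fiveF6s14,fiveF6s15,fiveF6s16]
  nrep := 54
  rc := 0x983547621000000098645732100000009854376210000000983467521000000098637542100000009865374210000000987453621000000098734562100000009875346210000000987563421000000098746532100000009873645210000000983765421000000098576432100000009847635210000000984573621000000098347562100000009853746210000000984675321000000098367452100000009856734210000000984376521000000098357642100000009854763210000000984365721000000098356472100000009854637210000000983746521000000098573642100000009847563210000000985743621000000098473562100000009837546210000000986745321000000098673452100000009867534210000000984536721000000098534672100000009834567210000000986543721000000098643572100000009863547210000000983645721000000098563472100000009846537210000000985647321000000098463752100000009836574210000000987546321000000098743652100000009873564210000000987643521000000098763542100000009876543210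
  xc := 0x987654310200000098765430210000009876543210
  hc := 0x9876543210

theorem fiveF6_step0 : fiveF6.stepOk 0 fiveF6s0 = true := by decide +kernel

theorem fiveF6_step1 : fiveF6.stepOk 1 fiveF6s1 = true := by decide +kernel

theorem fiveF6_step2 : fiveF6.stepOk 2 fiveF6s2 = true := by decide +kernel

theorem fiveF6_step3 : fiveF6.stepOk 3 fiveF6s3 = true := by decide +kernel

theorem fiveF6_step4 : fiveF6.stepOk 4 fiveF6s4 = true := by decide +kernel

theorem fiveF6_step5 : fiveF6.stepOk 5 fiveF6s5 = true := by decide +kernel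

theorem fiveF6_step6 : fiveF6.stepOk 6 fiveF6s6 = true := by decide +kernel

theorem fiveF6_step7 : fiveF6.stepOk 7 fiveF6s7 = true := by decide +kernel

theorem fiveF6_step8 : fiveF6.stepOk 8 fiveF6s8 = true := by decide +kernel

theorem fiveF6_step9 : fiveF6.stepOk 9 fiveF6s9 = true := by decide +kernel

theorem fiveF6_step10 : fiveF6.stepOk 10 fiveF6s10 = true := by decide +kernel

theorem fiveF6_step11 : fiveF6.stepOk 11 fiveF6s11 = true := by decide +kernel

theorem fiveF6_step12 : fiveF6.stepOk 12 fiveF6s12 = true := by decide +kernel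

theorem fiveF6_step13 : fiveF6.stepOk 13 fiveF6s13 = true := by decide +kernel

theorem fiveF6_step14 : fiveF6.stepOk 14 fiveF6s14 = true := by decide +kernel

theorem fiveF6_step15 : fiveF6.stepOk 15 fiveF6s15 = true := by decide +kernel

theorem fiveF6_step16 : fiveF6.stepOk 16 fiveF6s16 = true := by decide +kernel

theorem fiveF6_front : fiveF6.frontOk = true := by decide +kernel

theorem fiveF6_ok : fiveF6.check = true :=
  Stage.check_of _ fiveF6_front (
    Stage.stepsOk_cons _ fiveF6_step0 (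
    Stage.stepsOk_cons _ fiveF6_step1 (
    Stage.stepsOk_cons _ fiveF6_step2 (
    Stage.stepsOk_cons _ fiveF6_step3 (
    Stage.stepsOk_cons _ fiveF6_step4 (
    Stage.stepsOk_cons _ fiveF6_step5 (
    Stage.stepsOk_cons _ fiveF6_step6 (
    Stage.stepsOk_cons _ fiveF6_step7 (
    Stage.stepsOk_cons _ fiveF6_step8 (
    Stage.stepsOk_cons _ fiveF6_step9 (
    Stage.stepsOk_cons _ fiveF6_step10 (
    Stage.stepsOk_cons _ fiveF6_step11 (
    Stage.stepsOk_cons _ fiveF6_step12 (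
    Stage.stepsOk_cons _ fiveF6_step13 (
    Stage.stepsOk_cons _ fiveF6_step14 (
    Stage.stepsOk_cons _ fiveF6_step15 (
    Stage.stepsOk_cons _ fiveF6_step16 (
    (by decide +kernel)))))))))))))))))))

/-- certificate data -/
def fiveF7s0 : Step :=
  ⟨[(1,0),(1,1),(1,2)],[[528]],[⟨654820257825,654820258320,[(1,0),(2,0),(0,0)],[]⟩]⟩

/-- certificate data -/
def fiveF7s1 : Step :=
  ⟨[(1,3),(1,4),(1,5)],[[528]],[⟨654820257825,654820258320,[(4,0),(5,0),(3,0)],[]⟩]⟩

/-- certificate data -/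
def fiveF7s2 : Step :=
  ⟨[(1,6),(1,7),(1,8)],[[528]],[⟨654820257825,654820258320,[(7,0),(8,0),(6,0)],[]⟩]⟩

/-- certificate data -/
def fiveF7s3 : Step :=
  ⟨[(1,9),(1,10),(1,11)],[[528]],[⟨654820257825,654820258320,[(10,0),(11,0),(9,0)],[]⟩]⟩

/-- certificate data -/
def fiveF7s4 : Step :=
  ⟨[(1,12),(1,13),(1,14)],[[528]],[⟨654820257825,654820258320,[(13,0),(14,0),(12,0)],[]⟩]⟩

/-- certificate data -/
def fiveF7s5 : Step :=
  ⟨[(1,15),(1,16),(1,17)],[[528]],[⟨654820257825,654820258320,[(17,0),(15,0),(16,0)],[]⟩]⟩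

/-- certificate data -/
def fiveF7s6 : Step :=
  ⟨[(1,18),(1,19),(1,20)],[[528]],[⟨654820257825,654820258320,[(19,0),(20,0),(18,0)],[]⟩]⟩

/-- certificate data -/
def fiveF7s7 : Step :=
  ⟨[(1,21),(1,22),(1,23)],[[528]],[⟨654820257825,654820258320,[(22,0),(23,0),(21,0)],[]⟩]⟩

/-- certificate data -/
def fiveF7s8 : Step :=
  ⟨[(1,24),(1,25),(1,26)],[[528]],[⟨654820257825,654820258320,[(25,0),(26,0),(24,0)],[]⟩]⟩

/-- certificate data -/
def fiveF7s9 : Step :=
  ⟨[(1,27),(1,28),(1,29)],[[528]],[⟨654820257825,654820258320,[(28,0),(29,0),(27,0)],[]⟩]⟩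

/-- certificate data -/
def fiveF7s10 : Step :=
  ⟨[(1,30),(1,31),(1,32)],[[528]],[⟨654820257825,654820258320,[(31,0),(32,0),(30,0)],[]⟩]⟩

/-- certificate data -/
def fiveF7s11 : Step :=
  ⟨[(1,33),(1,34),(1,35)],[[528]],[⟨654820257825,654820258320,[(34,0),(35,0),(33,0)],[]⟩]⟩

/-- certificate data -/
def fiveF7s12 : Step :=
  ⟨[(1,36),(1,37),(1,38)],[[528]],[⟨654820257825,654820258320,[(37,0),(38,0),(36,0)],[]⟩]⟩

/-- certificate data -/
def fiveF7s13 : Step :=
  ⟨[(1,39),(1,40),(1,41)],[[528]],[⟨654820257825,654820258320,[(40,0),(41,0),(39,0)],[]⟩]⟩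

/-- certificate data -/
def fiveF7s14 : Step :=
  ⟨[(1,42),(1,43),(1,44)],[[528]],[⟨654820257825,654820258320,[(43,0),(44,0),(42,0)],[]⟩]⟩

/-- certificate data -/
def fiveF7s15 : Step :=
  ⟨[(1,45),(1,46),(1,47)],[[528]],[⟨654820257825,654820258320,[(46,0),(47,0),(45,0)],[]⟩]⟩

/-- certificate data -/
def fiveF7s16 : Step :=
  ⟨[(1,0)],[],[⟨0,0,[],[⟨2,[],654820258320,10,0,[(30,0),(31,0),(32,0)]⟩,
    ⟨2,[288,577],654820061250,5,0,[(25,0),(31,0),(3,0)]⟩,
    ⟨3,[784,834],654819992625,1,0,[(37,0),(11,0),(41,0)]⟩,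
    ⟨2,[561],654820254000,8,0,[(20,0),(22,0),(41,0)]⟩,
    ⟨1,[288,577],654820061250,4,0,[(48,0),(18,0),(49,0)]⟩,
    ⟨4,[784,834],654819992625,8,0,[(49,0),(46,0),(29,0)]⟩,
    ⟨4,[320,561],654820057140,3,0,[(48,0),(31,0),(44,0)]⟩,
    ⟨4,[784],654820246065,14,0,[(4,0),(1,0),(45,0)]⟩,
    ⟨1,[288,561],654820249650,1,0,[(45,0),(0,0),(42,0)]⟩,
    ⟨4,[288,577],654820061250,11,0,[(11,0),(8,0),(2,0)]⟩,
    ⟨1,[577],654820127040,3,0,[(2,0),(7,0),(34,0)]⟩,
    ⟨1,[320,1073],654819988020,9,0,[(8,0),(5,0),(20,0)]⟩,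
    ⟨4,[784],654820246065,15,0,[(5,0),(43,0),(0,0)]⟩,
    ⟨3,[320,1073],654819988020,0,0,[(15,0),(37,0),(50,0)]⟩,
    ⟨4,[320,1073],654819988020,11,0,[(51,0),(4,0),(13,0)]⟩,
    ⟨1,[288,577],654820061250,7,0,[(51,0),(47,0),(37,0)]⟩,
    ⟨3,[320,561],654820057140,15,0,[(32,0),(39,0),(7,0)]⟩,
    ⟨3,[784],654820246065,13,0,[(19,0),(25,0),(22,0)]⟩,
    ⟨2,[320,561],654820057140,13,0,[(52,0),(15,0),(47,0)]⟩,
    ⟨3,[320,1073],654819988020,3,0,[(52,0),(30,0),(43,0)]⟩,
    ⟨1,[],654820258320,14,0,[(42,0),(43,0),(44,0)]⟩,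
    ⟨2,[784,834],654819992625,0,0,[(31,0),(53,0),(28,0)]⟩,
    ⟨3,[],654820258320,9,0,[(27,0),(28,0),(29,0)]⟩,
    ⟨2,[288,577],654820061250,13,0,[(43,0),(50,0),(27,0)]⟩,
    ⟨3,[288,577],654820061250,12,0,[(53,0),(23,0),(46,0)]⟩,
    ⟨2,[784],654820246065,8,0,[(18,0),(23,0),(39,0)]⟩,
    ⟨2,[288,561],654820249650,0,0,[(4,0),(47,0),(43,0)]⟩,
    ⟨3,[320,561],654820057140,8,0,[(13,0),(37,0),(43,0)]⟩,
    ⟨1,[1040],654819996225,11,0,[(10,0),(7,0),(1,0)]⟩,
    ⟨4,[288,577],654820061250,2,0,[(10,0),(0,0),(34,0)]⟩,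
    ⟨2,[],654820258320,6,0,[(18,0),(19,0),(20,0)]⟩,
    ⟨3,[561],654820254000,5,0,[(11,0),(29,0),(13,0)]⟩,
    ⟨3,[784],654820246065,0,0,[(3,0),(46,0),(42,0)]⟩]⟩]⟩

/-- certificate data -/
def fiveF7 : Stage where
  n := 10
  p := 5
  gens := []
  facts := [[[528]]]
  reps := .node [] (.node [528] (.node [784] (.node [288,577] (.node [320,1073] (.node [784,834] (.nil) (.nil)) (.node [304] (.nil) (.nil))) (.node [1072,577] (.node [800,1073] (.nil) (.nil)) (.nil))) (.node [320,1057] (.node [800,1074] (.node [1057] (.nil) (.nil)) (.node [304,577] (.nil) (.nil))) (.node [576,801] (.node [801] (.nil) (.nil)) (.nil)))) (.node [561] (.node [320] (.node [320,561] (.node [528,1057] (.nil) (.nil)) (.node [528,834] (.nil) (.nil))) (.node [784,1074] (.node [528,1074] (.nil) (.nil)) (.nil))) (.node [832,801] (.node [1072] (.node [304,1057] (.nil) (.nil)) (.node [560,577] (.nil) (.nil))) (.node [320,801] (.node [560] (.nil) (.nil)) (.nil))))) (.node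 [288] (.node [288,561] (.node [577] (.node [576,561] (.node [1056,1073] (.nil) (.nil)) (.node [1040,834] (.nil) (.nil))) (.node [1073] (.node [1074] (.nil) (.nil)) (.nil))) (.node [832] (.node [801,1074] (.node [560,834] (.nil) (.nil)) (.node [833] (.nil) (.nil))) (.node [576,1074] (.node [528,801] (.nil) (.nil)) (.nil)))) (.node [1040] (.node [576] (.node [784,1073] (.node [1056] (.nil) (.nil)) (.node [800,833] (.nil) (.nil))) (.node [288,1073] (.node [800] (.nil) (.nil)) (.nil))) (.node [832,561] (.node [1072,1057] (.node [560,1057] (.nil) (.nil)) (.nil)) (.node [561,834] (.node [304,801] (.nil) (.nil)) (.nil)))))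
  elts := .node [] (.nil) (.nil)
  chain := []
  nrms := .node [] (.nil) (.nil)
  nnrm := 1
  nfix := [[]]
  terms := .node [(1,0),(1,1),(1,2)] (.node [(1,3),(1,4),(1,5)] (.node [(1,9),(1,10),(1,11)] (.node [(1,21),(1,22),(1,23)] (.node [(1,45),(1,46),(1,47)] (.nil) (.nil)) (.nil)) (.node [(1,33),(1,34),(1,35)] (.nil) (.nil))) (.node [(1,15),(1,16),(1,17)] (.node [(1,27),(1,28),(1,29)] (.nil) (.nil)) (.node [(1,39),(1,40),(1,41)] (.nil) (.nil)))) (.node [(1,6),(1,7),(1,8)] (.node [(1,12),(1,13),(1,14)] (.node [(1,24),(1,25),(1,26)] (.node [(1,0)] (.nil) (.nil)) (.nil)) (.node [(1,36),(1,37),(1,38)] (.nil) (.nil))) (.node [(1,18),(1,19),(1,20)] (.node [(1,30),(1,31),(1,32)] (.nil) (.nil)) (.node [(1,42),(1,43),(1,44)] (.nil) (.nil))))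
  steps := [fiveF7s0,fiveF7s1,fiveF7s2,fiveF7s3,fiveF7s4,fiveF7s5,fiveF7s6,fiveF7s7,fiveF7s8,fiveF7s9,fiveF7s10,fiveF7s11,fiveF7s12,fiveF7s13,fiveF7s14,fiveF7s15,fiveF7s16]
  nrep := 54
  rc := 0x987650214300000098765312400000009876521043000000987650134200000098765304210000009876532041000000987654120300000098765401230000009876542013000000987654230100000098765413200000009876540312000000987650432100000098765243100000009876514302000000987651240300000098765014230000009876520413000000987651342000000098765034120000009876523401000000987651043200000098765024310000009876521430000000987651032400000098765023140000009876521304000000987650413200000098765240310000009876514230000000987652410300000098765140230000009876504213000000987653412000000098765340120000009876534201000000987651203400000098765201340000009876501234000000987653210400000098765310240000009876530214000000987650312400000098765230140000009876513204000000987652314000000098765130420000009876503241000000987654213000000098765410320000009876540231000000987654310200000098765430210000009876543210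
  xc := 0x9876543210
  hc := 0x9876543210

theorem fiveF7_step0 : fiveF7.stepOk 0 fiveF7s0 = true := by decide +kernel

theorem fiveF7_step1 : fiveF7.stepOk 1 fiveF7s1 = true := by decide +kernel

theorem fiveF7_step2 : fiveF7.stepOk 2 fiveF7s2 = true := by decide +kernel

theorem fiveF7_step3 : fiveF7.stepOk 3 fiveF7s3 = true := by decide +kernel

theorem fiveF7_step4 : fiveF7.stepOk 4 fiveF7s4 = true := by decide +kernel

theorem fiveF7_step5 : fiveF7.stepOk 5 fiveF7s5 = true := by decide +kernel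

theorem fiveF7_step6 : fiveF7.stepOk 6 fiveF7s6 = true := by decide +kernel

theorem fiveF7_step7 : fiveF7.stepOk 7 fiveF7s7 = true := by decide +kernel

theorem fiveF7_step8 : fiveF7.stepOk 8 fiveF7s8 = true := by decide +kernel

theorem fiveF7_step9 : fiveF7.stepOk 9 fiveF7s9 = true := by decide +kernel

theorem fiveF7_step10 : fiveF7.stepOk 10 fiveF7s10 = true := by decide +kernel

theorem fiveF7_step11 : fiveF7.stepOk 11 fiveF7s11 = true := by decide +kernel

theorem fiveF7_step12 : fiveF7.stepOk 12 fiveF7s12 = true := by decide +kernel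

theorem fiveF7_step13 : fiveF7.stepOk 13 fiveF7s13 = true := by decide +kernel

theorem fiveF7_step14 : fiveF7.stepOk 14 fiveF7s14 = true := by decide +kernel

theorem fiveF7_step15 : fiveF7.stepOk 15 fiveF7s15 = true := by decide +kernel

theorem fiveF7_step16 : fiveF7.stepOk 16 fiveF7s16 = true := by decide +kernel

theorem fiveF7_front : fiveF7.frontOk = true := by decide +kernel

theorem fiveF7_ok : fiveF7.check = true :=
  Stage.check_of _ fiveF7_front (
    Stage.stepsOk_cons _ fiveF7_step0 (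
    Stage.stepsOk_cons _ fiveF7_step1 (
    Stage.stepsOk_cons _ fiveF7_step2 (
    Stage.stepsOk_cons _ fiveF7_step3 (
    Stage.stepsOk_cons _ fiveF7_step4 (
    Stage.stepsOk_cons _ fiveF7_step5 (
    Stage.stepsOk_cons _ fiveF7_step6 (
    Stage.stepsOk_cons _ fiveF7_step7 (
    Stage.stepsOk_cons _ fiveF7_step8 (
    Stage.stepsOk_cons _ fiveF7_step9 (
    Stage.stepsOk_cons _ fiveF7_step10 (
    Stage.stepsOk_cons _ fiveF7_step11 (
    Stage.stepsOk_cons _ fiveF7_step12 (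
    Stage.stepsOk_cons _ fiveF7_step13 (
    Stage.stepsOk_cons _ fiveF7_step14 (
    Stage.stepsOk_cons _ fiveF7_step15 (
    Stage.stepsOk_cons _ fiveF7_step16 (
    (by decide +kernel)))))))))))))))))))

end Cfsg.Agent.Lib.FixLadder
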