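import Cfsg.Agent.Lib.FixLadder.Basic

/-! Generated certificate (kernel-checked by `decide +kernel`). -/

namespace Cfsg.Agent.Lib.FixLadder

set_option maxRecDepth 100000
set_option maxHeartbeats 0

/-- generators of a nonsolvable subgroup -/
def fiveNS0 : List W := [[528,1893],[528,1074,1893,2439]]

theorem fiveNS0_ok : perfectOk 10 fiveNS0 [⟨[0,0],[0],[1,1,0,0,1,0,1],[1,1,0,0,1,0,1]⟩,⟨[0],[0,0],[0,1,0,1],[1,0,1,0,0]⟩] = true := by decide +kernel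

/-- generators of a nonsolvable subgroup -/
def fiveNS1 : List W := [[528,1653],[528,1074,2165,2438]]

theorem fiveNS1_ok : perfectOk 10 fiveNS1 [⟨[0,0],[0],[1,1,0,0,1,0,1],[1,1,0,0,1,0,1]⟩,⟨[0],[0,0],[0,1,0,1],[1,0,1,0,0]⟩] = true := by decide +kernel

/-- generators of a nonsolvable subgroup -/
def fiveNS2 : List W := [[528],[528,1074]]

theorem fiveNS2_ok : perfectOk 10 fiveNS2 [⟨[0,0],[0],[1,1,0,0,1,0,1],[1,1,0,0,1,0,1]⟩,⟨[0],[0,0],[0,1,0,1],[1,0,1,0,0]⟩] = true := by decide +kernel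

/-- generators of a nonsolvable subgroup -/
def fiveNS3 : List W := [[1893],[1893,2439]]

theorem fiveNS3_ok : perfectOk 10 fiveNS3 [⟨[0,0],[0],[1,1,0,0,1,0,1],[1,1,0,0,1,0,1]⟩,⟨[0],[0,0],[0,1,0,1],[1,0,1,0,0]⟩] = true := by decide +kernel

/-- generators of a nonsolvable subgroup -/
def fiveNS4 : List W := [[800,1073],[320,1105]]

theorem fiveNS4_ok : perfectOk 10 fiveNS4 [⟨[0,0,0],[0,0],[1,0,0,1,0,0,0,1],[1,0,0,1,0,0,0,1]⟩,⟨[0,1,0,0,0],[0,0,0,1,0,1],[1,0,0,0,1,0],[1,0,1,0,0,0,1]⟩] = true := by decide +kernel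

/-- generators of a nonsolvable subgroup -/
def fiveNS5 : List W := [[1620,2166],[1428,2437]]

theorem fiveNS5_ok : perfectOk 10 fiveNS5 [⟨[0,0,0],[0,0],[1,0,0,1,0,0,0,1],[1,0,0,1,0,0,0,1]⟩,⟨[0,1,0,0,0],[0,0,0,1,0,1],[1,0,0,0,1,0],[1,0,1,0,0,0,1]⟩] = true := by decide +kernel


end Cfsg.Agent.Lib.FixLadder
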