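import Cfsg.Agent.Lib.FixLadder.Basic

/-! Generated certificate (kernel-checked by `decide +kernel`). -/

namespace Cfsg.Agent.Lib.FixLadder

set_option maxRecDepth 100000
set_option maxHeartbeats 0

/-- generators of a nonsolvable subgroup -/
def twoNS0 : List W := [[528,1057],[800,833]]

theorem twoNS0_ok : perfectOk 9 twoNS0 [⟨[1,1,0,1],[1,0,1,1,0],[1,1,0,1,0],[0,1,0,1,1,0]⟩,⟨[1,1,1],[1,1],[0,1,1,0,1,0,1,0],[0,1,1,0,1,0,1,0]⟩] = true := by decide +kernel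

/-- generators of a nonsolvable subgroup -/
def twoNS1 : List W := [[784,834],[304,1313]]

theorem twoNS1_ok : perfectOk 9 twoNS1 [⟨[1,0],[0,0,1,0,0,0],[1],[1,1,1,1]⟩,⟨[1,0],[0,0,1,0,0,0],[1,0,0],[0,1,0,0,0]⟩] = true := by decide +kernel

/-- generators of a nonsolvable subgroup -/
def twoNS2 : List W := [[1872,1921,1138],[1312,1857,1619,1926]]

theorem twoNS2_ok : perfectOk 9 twoNS2 [⟨[0,0,0,0],[0,0,0],[1,1,0,0,0,0,1],[1,1,0,0,0,0,1]⟩,⟨[1,1,1,0],[1,1,1,0,1,1,1,0],[0,1,1,0,1],[1,0,1,1]⟩] = true := by decide +kernel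

/-- generators of a nonsolvable subgroup -/
def twoNS3 : List W := [[800,1347,1669],[1376,2081,1395,1412]]

theorem twoNS3_ok : perfectOk 9 twoNS3 [⟨[0,0,0,0],[0,0,0],[1,1,0,0,0,0,1],[1,1,0,0,0,0,1]⟩,⟨[1,1,1,0],[1,1,1,0,1,1,1,0],[0,1,1,0,1],[1,0,1,1]⟩] = true := by decide +kernel

/-- generators of a nonsolvable subgroup -/
def twoNS4 : List W := [[609,1074,1620],[528,1603]]

theorem twoNS4_ok : perfectOk 9 twoNS4 [⟨[1],[1,1],[1,0,1,0,1,0],[0,1,0,1,0,1,1]⟩,⟨[1,1],[1],[0,1,0,1,1,0,1,0],[0,1,0,1,1,0,1,0]⟩] = true := by decide +kernel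

/-- generators of a nonsolvable subgroup -/
def twoNS5 : List W := [[288,1073,1347,1893],[1872,1841,1652]]

theorem twoNS5_ok : perfectOk 9 twoNS5 [⟨[1,0],[1,1,0,1],[1,0,1,1],[0,1]⟩,⟨[1,1],[0,1,1,0],[0,0,1,0],[0,1,0,0,1]⟩] = true := by decide +kernel

/-- generators of a nonsolvable subgroup -/
def twoNS6 : List W := [[528,801,1380,1653],[784,1890,1139]]

theorem twoNS6_ok : perfectOk 9 twoNS6 [⟨[1,1,1,1,0,1,1],[1,1,1,1,1,0,1,1,1],[1,1,1,1,0,1,1,0],[1,0,1,1,0,1,1,1,1]⟩,⟨[1,1],[1,1,1,1,1],[0,1,1,1,1,0,1,1,0],[1,0,1,1,0,1,1,1,1,0]⟩] = true := by decide +kernel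


end Cfsg.Agent.Lib.FixLadder
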