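import Cfsg.Agent.Lib.FixLadder.Modules
import Cfsg.Agent.Lib.Frobenius.CoreQuotient
import Cfsg.Prelude

/-!
No section `A (5 + q)` when non-central `p`-elements have solvable centralizers.
-/

namespace Cfsg.Agent.Lib.FixLadder

open Equiv

universe u v

/-- a nonsolvable subgroup of order 60 commuting with a nontrivial `p`-element -/
theorem exists_commuting_pair (p q : ℕ) [Fact p.Prime] (hq : 2 ≤ q)
    (hdvd : p ∣ Nat.card (alternatingGroup (Fin q))) :
    ∃ (c : Alt (5 + q)) (S : Subgroup (Alt (5 + q))), c ≠ 1 ∧ c ^ p = 1 ∧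
      ¬ Group.IsSolvable S ∧ Nat.card S = 60 ∧ ∀ s ∈ S, s * c = c * s := by
  let ι : Perm (Fin 5) × Perm (Fin q) →* Perm (Fin (5 + q)) :=
    (finSumFinEquiv.permCongrHom.toMonoidHom).comp (Perm.sumCongrHom (Fin 5) (Fin q))
  have hinj : Function.Injective ι :=
    (finSumFinEquiv.permCongrHom.injective).comp Perm.sumCongrHom_injective
  have hsign : ∀ x, Perm.sign (ι x) = Perm.sign x.1 * Perm.sign x.2 := by
    intro x
    show Perm.sign (finSumFinEquiv.permCongr (Perm.sumCongr x.1 x.2)) = _
    rw [Perm.sign_permCongr, Perm.sign_sumCongr]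
  let j : alternatingGroup (Fin 5) × alternatingGroup (Fin q) →* Alt (5 + q) :=
    (ι.comp ((alternatingGroup (Fin 5)).subtype.prodMap (alternatingGroup (Fin q)).subtype)).codRestrict
      _ fun x => by
        rw [Perm.mem_alternatingGroup]
        show Perm.sign (ι ((x.1 : Perm (Fin 5)), (x.2 : Perm (Fin q)))) = 1
        rw [hsign, Perm.mem_alternatingGroup.1 x.1.2, Perm.mem_alternatingGroup.1 x.2.2, one_mul]
  have hj : Function.Injective j := by
    intro a b hab
    have := hinj (congrArg Subtype.val hab)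
    simp only [MonoidHom.prodMap, Prod.ext_iff] at this
    exact Prod.ext (Subtype.ext this.1) (Subtype.ext this.2)
  obtain ⟨d, hd⟩ := exists_prime_orderOf_dvd_card' p hdvd
  refine ⟨j (1, d), (j.comp (MonoidHom.inl _ _)).range, ?_, ?_, ?_, ?_, ?_⟩
  · intro h
    rw [← map_one j] at h
    have h1 := congrArg Prod.snd (hj h)
    simp only [Prod.snd_one] at h1
    rw [h1, orderOf_one] at hd
    exact (Fact.out : p.Prime).one_lt.ne hd
  · rw [← map_pow, Prod.pow_mk, one_pow, ← hd, pow_orderOf_eq_one]
    exact map_one j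
  · intro h
    haveI := h
    exact CoreQuotient.not_isSolvable_alternatingFive (Group.isSolvable_of_isSolvable_injective
      (f := (j.comp (MonoidHom.inl _ _)).rangeRestrict) fun a b hab =>
        (congrArg Prod.fst (hj (congrArg Subtype.val hab))))
  · rw [Nat.card_congr (MonoidHom.ofInjective (f := j.comp (MonoidHom.inl _ _)) fun a b hab =>
      (congrArg Prod.fst (hj hab))).toEquiv.symm, nat_card_alternatingGroup,
      Nat.card_eq_fintype_card, Fintype.card_fin]
    rfl
  · rintro _ ⟨a, rfl⟩
    simp only [MonoidHom.comp_apply, MonoidHom.inl_apply, ← map_mul, Prod.mk_mul_mk, one_mul,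
      mul_one]

/-- a smaller alternating group inside a larger one -/
theorem exists_embedding {m d : ℕ} (h : m ≤ d) :
    ∃ e : Alt m →* alternatingGroup (Fin d), Function.Injective e := by
  let f : Perm (Fin m) →* Perm (Fin d) := Perm.viaEmbeddingHom (Fin.castLEEmb h)
  refine ⟨(f.comp (alternatingGroup (Fin m)).subtype).codRestrict _ fun x => ?_, ?_⟩
  · rw [Perm.mem_alternatingGroup]
    show Perm.sign (Perm.viaEmbedding (x : Perm (Fin m)) (Fin.castLEEmb h)) = 1
    rw [Perm.viaEmbedding]
    convert Perm.mem_alternatingGroup.1 x.2 using 1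
    convert Perm.sign_extendDomain (x : Perm (Fin m))
      (Equiv.ofInjective (Fin.castLEEmb h).toFun (Fin.castLEEmb h).inj') using 3
  · intro a b hab
    exact Subtype.ext (Perm.viaEmbeddingHom_injective _ (congrArg Subtype.val hab))

/-- the section theorem -/
theorem not_involves {G : Type u} [Group G] [Finite G] (p q : ℕ) [Fact p.Prime] (hq : 2 ≤ q)
    (hdvd : p ∣ Nat.card (alternatingGroup (Fin q)))
    (hmod : ¬ p ∣ 60 ∨ ModuleProp.{u} p (5 + q)) (hG : Hyp p G) (d : ℕ) (hd : 5 + q ≤ d)
    (hinv : Cfsg.Involves (alternatingGroup (Fin d)) G) : False := by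
  obtain ⟨K, R, hR, ⟨e⟩⟩ := hinv
  haveI := hR
  have hp : p.Prime := Fact.out
  obtain ⟨f, hf⟩ := exists_embedding hd
  let g : K →* alternatingGroup (Fin d) := e.toMonoidHom.comp (QuotientGroup.mk' _)
  have hg : Function.Surjective g := e.surjective.comp (QuotientGroup.mk'_surjective _)
  let ψ : f.range.comap g →* Alt (5 + q) :=
    (MonoidHom.ofInjective hf).symm.toMonoidHom.comp (g.subgroupComap f.range)
  have hψ : Function.Surjective ψ := by
    refine (MonoidHom.ofInjective hf).symm.surjective.comp ?_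
    rintro ⟨t, ht⟩
    obtain ⟨y, rfl⟩ := hg t
    exact ⟨⟨y, ht⟩, rfl⟩
  obtain ⟨H, φ, hφ, hnil⟩ := exists_cover (f.range.comap g) ψ hψ
  have hHyp : Hyp p H := hyp_subgroup (hyp_subgroup (hyp_subgroup hG K) _) H
  let T : Type u := ULift (Alt (5 + q))
  let u0 : Alt (5 + q) ≃* T := MulEquiv.ulift.symm
  refine false_of_nilpotent hp (T := T) ?_ (Nat.card H) H (u0.toMonoidHom.comp φ) le_rfl hHyp
    (u0.surjective.comp hφ) ?_
  swap
  · rwa [show (u0.toMonoidHom.comp φ).ker = φ.ker by ext; simp]
  intro H' _ _ φ' hH' hφ' hK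
  have hcard : 5 ≤ Nat.card (Fin (5 + q)) := by simp
  set χ : H' →* Alt (5 + q) := u0.symm.toMonoidHom.comp φ' with hχ
  have hχs : Function.Surjective χ := u0.symm.surjective.comp hφ'
  have hker : χ.ker = φ'.ker := by ext; simp [hχ]
  obtain ⟨c, S, hc, hcp, hS, hcard60, hcomm⟩ := exists_commuting_pair p q hq hdvd
  have hcenterA : Subgroup.center (Alt (5 + q)) = ⊥ :=
    alternatingGroup.center_eq_bot (by simp; omega)
  have hcT : u0 c ≠ 1 := fun h => hc (u0.injective (h.trans (map_one u0).symm))
  have hcTp : u0 c ^ p ^ 1 = 1 := by rw [pow_one, ← map_pow, hcp, map_one]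
  have hTc : Subgroup.center T = ⊥ := by
    rw [Subgroup.eq_bot_iff_forall]
    intro t ht
    have : u0.symm t ∈ Subgroup.center (Alt (5 + q)) := by
      rw [Subgroup.mem_center_iff]
      intro y
      apply u0.injective
      rw [map_mul, map_mul, u0.apply_symm_apply]
      exact Subgroup.mem_center_iff.1 ht _
    rw [hcenterA, Subgroup.mem_bot] at this
    exact u0.symm.injective (this.trans (map_one _).symm)
  have hST : ¬ Group.IsSolvable (S.map u0.toMonoidHom) := by
    intro h
    haveI := h
    exact hS (Group.isSolvable_of_isSolvable_injective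
      (f := (S.equivMapOfInjective u0.toMonoidHom u0.injective).toMonoidHom)
      (S.equivMapOfInjective u0.toMonoidHom u0.injective).injective)
  have hcommT : ∀ s ∈ S.map u0.toMonoidHom, s * u0 c = u0 c * s := by
    rintro _ ⟨s, hs, rfl⟩
    show u0 s * u0 c = u0 c * u0 s
    rw [← map_mul, ← map_mul, hcomm s hs]
  rcases hmod with h60 | hmod
  · refine false_of_coprime hp hH' φ' hφ' hTc hK (u0 c) hcT 1 hcTp _ hST ?_ hcommT
    rwa [← Nat.card_congr (S.equivMapOfInjective _ u0.injective).toEquiv, hcard60]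
  · by_cases hKc : φ'.ker ≤ Subgroup.center H'
    · exact false_of_central hp hH' φ' hφ' hTc hK hKc (u0 c) hcT 1 hcTp _ hST hcommT
    · exact false_of_noncentral hp hmod hH' χ hχs (hker ▸ hK) (hker ▸ hKc)

theorem bound {G : Type u} [Group G] [Finite G] (p : ℕ) [Fact p.Prime] (hp3 : p ≠ 3)
    (hG : Hyp p G) (d : ℕ) (hinv : Cfsg.Involves (alternatingGroup (Fin d)) G) :
    d ≤ p + 4 + (if p = 2 then 2 else 0) := by
  have hp : p.Prime := Fact.out
  by_contra hlt
  push Not at hlt
  rcases eq_or_ne p 2 with rfl | hp2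
  · refine not_involves 2 4 (by omega) ?_ (Or.inr moduleProp_two) hG d (by simp at hlt; omega) hinv
    rw [nat_card_alternatingGroup, Nat.card_eq_fintype_card, Fintype.card_fin]
    decide
  · rw [if_neg hp2] at hlt
    have h5 : 5 ≤ p := by
      have h4 : p ≠ 4 := by rintro rfl; exact absurd hp (by decide)
      have := hp.two_le
      omega
    refine not_involves p p (by omega) ?_ ?_ hG d (by omega) hinv
    · haveI : Nontrivial (Fin p) := Fin.nontrivial_iff_two_le.2 (by omega)
      have h1 : p ∣ 2 * Nat.card (alternatingGroup (Fin p)) := by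
        rw [two_mul_nat_card_alternatingGroup, Nat.card_perm, Nat.card_eq_fintype_card,
          Fintype.card_fin]
        exact Nat.dvd_factorial hp.pos le_rfl
      exact ((Nat.coprime_primes hp Nat.prime_two).2 hp2).dvd_of_dvd_mul_left h1
    · rcases eq_or_ne p 5 with rfl | hne
      · exact Or.inr moduleProp_five
      · left
        intro hdvd
        have : (60 : ℕ) = 2 * 2 * 3 * 5 := rfl
        rw [this] at hdvd
        rcases (hp.dvd_mul.1 hdvd) with h | h
        · rcases (hp.dvd_mul.1 h) with h | h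
          · rcases (hp.dvd_mul.1 h) with h | h <;>
              exact hp2 ((Nat.prime_dvd_prime_iff_eq hp Nat.prime_two).1 h)
          · exact hp3 ((Nat.prime_dvd_prime_iff_eq hp Nat.prime_three).1 h)
        · exact hne ((Nat.prime_dvd_prime_iff_eq hp (by norm_num)).1 h)

end Cfsg.Agent.Lib.FixLadder
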