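import Cfsg.Agent.Lib.FixLadder.Reduce
import Cfsg.Agent.Lib.FixLadder.DataFiveGroups
import Cfsg.Agent.Lib.FixLadder.DataFive
import Cfsg.Agent.Lib.FixLadder.DataTwoGroups
import Cfsg.Agent.Lib.FixLadder.DataTwoP13
import Cfsg.Agent.Lib.FixLadder.DataTwoP0
import Cfsg.Agent.Lib.FixLadder.DataTwoP1
import Cfsg.Agent.Lib.FixLadder.DataTwoP2
import Cfsg.Agent.Lib.FixLadder.DataTwoT

/-!
Nonzero modules of exponent 5 for `A10`, and of exponent 2 for `A9`, have nonzero vectors fixed by
nonsolvable subgroups.
-/

namespace Cfsg.Agent.Lib.FixLadder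

universe u

theorem five_kills {M : Type*} [AddCommGroup M] [DistribMulAction (Alt 10) M]
    (hp : ∀ m : M, 5 • m = 0) (hno : NoFix 10 M) : Kills 10 M fiveF7.gens := by
  have hF0 : Kills 10 M fiveF0.gens := by
    refine @check_sound fiveF0 fiveF0_ok M _ ‹DistribMulAction (Alt _) M› hp ?_
    intro gs hgs
    replace hgs : gs ∈ [fiveNS0, fiveNS1, fiveNS2, fiveNS3] := hgs
    simp only [List.mem_cons, List.not_mem_nil, or_false] at hgs
    rcases hgs with rfl | rfl | rfl | rfl
    · exact (kills_of_perfect hno _ fiveNS0_ok)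
    · exact (kills_of_perfect hno _ fiveNS1_ok)
    · exact (kills_of_perfect hno _ fiveNS2_ok)
    · exact (kills_of_perfect hno _ fiveNS3_ok)
  have hF2 : Kills 10 M fiveF2.gens := by
    refine @check_sound fiveF2 fiveF2_ok M _ ‹DistribMulAction (Alt _) M› hp ?_
    intro gs hgs
    replace hgs : gs ∈ [fiveNS5, fiveF0.gens] := hgs
    simp only [List.mem_cons, List.not_mem_nil, or_false] at hgs
    rcases hgs with rfl | rfl
    · exact (kills_of_perfect hno _ fiveNS5_ok)
    · exact hF0
  have hF3 : Kills 10 M fiveF3.gens := by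
    refine @check_sound fiveF3 fiveF3_ok M _ ‹DistribMulAction (Alt _) M› hp ?_
    intro gs hgs
    replace hgs : gs ∈ [fiveNS2, fiveF0.gens, fiveNS0, fiveNS1, fiveF2.gens] := hgs
    simp only [List.mem_cons, List.not_mem_nil, or_false] at hgs
    rcases hgs with rfl | rfl | rfl | rfl | rfl
    · exact (kills_of_perfect hno _ fiveNS2_ok)
    · exact hF0
    · exact (kills_of_perfect hno _ fiveNS0_ok)
    · exact (kills_of_perfect hno _ fiveNS1_ok)
    · exact hF2
  have hF4 : Kills 10 M fiveF4.gens := by
    refine @check_sound fiveF4 fiveF4_ok M _ ‹DistribMulAction (Alt _) M› hp ?_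
    intro gs hgs
    replace hgs : gs ∈ [fiveF3.gens] := hgs
    simp only [List.mem_cons, List.not_mem_nil, or_false] at hgs
    rcases hgs with rfl
    · exact hF3
  have hF5 : Kills 10 M fiveF5.gens := by
    refine @check_sound fiveF5 fiveF5_ok M _ ‹DistribMulAction (Alt _) M› hp ?_
    intro gs hgs
    replace hgs : gs ∈ [fiveF4.gens, fiveNS4] := hgs
    simp only [List.mem_cons, List.not_mem_nil, or_false] at hgs
    rcases hgs with rfl | rfl
    · exact hF4
    · exact (kills_of_perfect hno _ fiveNS4_ok)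
  have hF6 : Kills 10 M fiveF6.gens := by
    refine @check_sound fiveF6 fiveF6_ok M _ ‹DistribMulAction (Alt _) M› hp ?_
    intro gs hgs
    replace hgs : gs ∈ [fiveF5.gens] := hgs
    simp only [List.mem_cons, List.not_mem_nil, or_false] at hgs
    rcases hgs with rfl
    · exact hF5
  have hF7 : Kills 10 M fiveF7.gens := by
    refine @check_sound fiveF7 fiveF7_ok M _ ‹DistribMulAction (Alt _) M› hp ?_
    intro gs hgs
    replace hgs : gs ∈ [fiveF6.gens] := hgs
    simp only [List.mem_cons, List.not_mem_nil, or_false] at hgs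
    rcases hgs with rfl
    · exact hF6
  exact hF7

theorem two_kills {M : Type*} [AddCommGroup M] [DistribMulAction (Alt 9) M]
    (hp : ∀ m : M, 2 • m = 0) (hno : NoFix 9 M) : Kills 9 M twoT.gens := by
  have hP13 : Kills 9 M twoP13.gens := by
    refine @check_sound twoP13 twoP13_ok M _ ‹DistribMulAction (Alt _) M› hp ?_
    intro gs hgs
    replace hgs : gs ∈ [twoNS0, twoNS1, twoNS5, twoNS6] := hgs
    simp only [List.mem_cons, List.not_mem_nil, or_false] at hgs
    rcases hgs with rfl | rfl | rfl | rfl
    · exact (kills_of_perfect hno _ twoNS0_ok)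
    · exact (kills_of_perfect hno _ twoNS1_ok)
    · exact (kills_of_perfect hno _ twoNS5_ok)
    · exact (kills_of_perfect hno _ twoNS6_ok)
  have hP0 : Kills 9 M twoP0.gens := by
    refine @check_sound twoP0 twoP0_ok M _ ‹DistribMulAction (Alt _) M› hp ?_
    intro gs hgs
    replace hgs : gs ∈ [twoNS1, twoNS4, twoNS0] := hgs
    simp only [List.mem_cons, List.not_mem_nil, or_false] at hgs
    rcases hgs with rfl | rfl | rfl
    · exact (kills_of_perfect hno _ twoNS1_ok)
    · exact (kills_of_perfect hno _ twoNS4_ok)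
    · exact (kills_of_perfect hno _ twoNS0_ok)
  have hP2 : Kills 9 M twoP2.gens := by
    refine @check_sound twoP2 twoP2_ok M _ ‹DistribMulAction (Alt _) M› hp ?_
    intro gs hgs
    replace hgs : gs ∈ [twoP0.gens, twoP13.gens, twoNS5, twoNS1, twoNS3] := hgs
    simp only [List.mem_cons, List.not_mem_nil, or_false] at hgs
    rcases hgs with rfl | rfl | rfl | rfl | rfl
    · exact hP0
    · exact hP13
    · exact (kills_of_perfect hno _ twoNS5_ok)
    · exact (kills_of_perfect hno _ twoNS1_ok)
    · exact (kills_of_perfect hno _ twoNS3_ok)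
  have hP1 : Kills 9 M twoP1.gens := by
    refine @check_sound twoP1 twoP1_ok M _ ‹DistribMulAction (Alt _) M› hp ?_
    intro gs hgs
    replace hgs : gs ∈ [twoP0.gens, twoP13.gens, twoNS5, twoP2.gens, twoNS2] := hgs
    simp only [List.mem_cons, List.not_mem_nil, or_false] at hgs
    rcases hgs with rfl | rfl | rfl | rfl | rfl
    · exact hP0
    · exact hP13
    · exact (kills_of_perfect hno _ twoNS5_ok)
    · exact hP2
    · exact (kills_of_perfect hno _ twoNS2_ok)
  have hT : Kills 9 M twoT.gens := by
    refine @check_sound twoT twoT_ok M _ ‹DistribMulAction (Alt _) M› hp ?_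
    intro gs hgs
    replace hgs : gs ∈ [twoP0.gens, twoP2.gens, twoP1.gens, twoNS0] := hgs
    simp only [List.mem_cons, List.not_mem_nil, or_false] at hgs
    rcases hgs with rfl | rfl | rfl | rfl
    · exact hP0
    · exact hP2
    · exact hP1
    · exact (kills_of_perfect hno _ twoNS0_ok)
  exact hT

theorem moduleProp_five : ModuleProp.{u} 5 10 := by
  intro M _ _ _ hp hno v
  exact five_kills hp hno v (by intro g hg; replace hg : g ∈ ([] : List W) := hg; simp at hg)

/-- elements of the list `elts` are closed under the generators -/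
def closedOk (S : Stage) : Bool :=
  (List.range (S.chain.length + 1)).all fun j => S.gens.all fun g =>
    (List.range (S.chain.length + 1)).any fun k => same S.n (g ++ S.elt j) (S.elt k)

def powOk (S : Stage) : Bool :=
  (List.range (S.chain.length + 1)).all fun j =>
    same S.n (S.elt j ++ S.elt j ++ (S.elt j ++ S.elt j) ++
      (S.elt j ++ S.elt j ++ (S.elt j ++ S.elt j))) []

theorem twoT_closed : closedOk twoT = true := by decide +kernel

theorem twoT_pow : powOk twoT = true := by decide +kernel

theorem twoT_elt_zero : same 9 (twoT.elt 0) [] = true := by decide +kernel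

theorem moduleProp_two : ModuleProp.{u} 2 9 := by
  intro M _ _ _ hp hno v
  let P : Subgroup (Alt 9) := Subgroup.closure {x | ∃ g ∈ twoT.gens, el 9 g = x}
  have hP : ∀ x ∈ P, ∃ j ≤ twoT.chain.length, x = el 9 (twoT.elt j) := by
    intro x hx
    have hx' : x ∈ Submonoid.closure {x | ∃ g ∈ twoT.gens, el 9 g = x} := by
      rw [← Subgroup.closure_toSubmonoid_of_finite]; exact hx
    induction hx' using Submonoid.closure_induction_left with
    | one => exact ⟨0, Nat.zero_le _, by rw [(same_iff _ _ _).1 twoT_elt_zero]; rfl⟩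
    | mul_left a ha b hb ih =>
      obtain ⟨g, hg, rfl⟩ := ha
      obtain ⟨j, hj, rfl⟩ := ih (by
        rw [← Subgroup.mem_toSubmonoid, Subgroup.closure_toSubmonoid_of_finite]; exact hb)
      have h := twoT_closed
      simp only [closedOk, List.all_eq_true, List.any_eq_true, List.mem_range] at h
      obtain ⟨k, hk, hs⟩ := h j (by omega) g hg
      exact ⟨k, by omega, by rw [← el_append]; exact (same_iff 9 _ _).1 hs⟩
  have hPp : IsPGroup 2 P := by
    intro x
    obtain ⟨j, hj, hx⟩ := hP x x.2
    refine ⟨3, Subtype.ext ?_⟩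
    have h := twoT_pow
    simp only [powOk, List.all_eq_true, List.mem_range] at h
    have h8 := (same_iff 9 _ _).1 (h j (by omega))
    simp only [el_append] at h8
    rw [SubgroupClass.coe_pow, hx]
    simp only [el] at h8
    rw [show (2 : ℕ) ^ 3 = 2 * 2 * 2 from rfl, pow_mul, pow_mul, pow_two, pow_two, pow_two,
      OneMemClass.coe_one]
    exact h8
  by_contra hv
  haveI : Nontrivial M := ⟨⟨v, 0, hv⟩⟩
  obtain ⟨k, hk⟩ := (IsPGroup.iff_card (p := 2) (G := Multiplicative M)).1 (fun m => ⟨1, by
    rw [pow_one]; exact hp (Multiplicative.toAdd m)⟩)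
  have hdvd : 2 ∣ Nat.card M := by
    rcases Nat.eq_zero_or_pos k with rfl | hk0
    · have : Nat.card M = 1 := by rw [← pow_zero 2, ← hk]; rfl
      exact absurd this (Finite.one_lt_card (α := M)).ne'
    · have : Nat.card M = 2 ^ k := by rw [← hk]; rfl
      rw [this]; exact dvd_pow_self 2 (by omega)
  haveI : Fact (Nat.Prime 2) := ⟨Nat.prime_two⟩
  obtain ⟨w, hw, hw0⟩ := hPp.exists_fixed_point_of_prime_dvd_card_of_fixed_point (α := M) hdvd
    (a := 0) (fun g => smul_zero g)
  exact hw0 (two_kills hp hno w fun g hg =>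
    hw ⟨el 9 g, Subgroup.subset_closure ⟨g, hg, rfl⟩⟩).symm

end Cfsg.Agent.Lib.FixLadder
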