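import Cfsg.Agent.Lib.FixLadder.Basic
import Cfsg.Agent.Lib.Coprime.Lift
import Mathlib

/-!
Group-theoretic reduction: a group in which every non-central `p`-element has solvable centralizer
has no alternating section `A (5 + q)` as soon as the modules of that group of exponent `p` have
nonzero vectors fixed by nonsolvable subgroups (or `p ∤ 60`).
-/

namespace Cfsg.Agent.Lib.FixLadder

open Subgroup
open scoped commutatorElement

universe u

/-- every noncentral `p`-element has solvable centralizer -/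
def Hyp (p : ℕ) (H : Type u) [Group H] : Prop :=
  ∀ x : H, (∃ k : ℕ, orderOf x = p ^ k) →
    ¬ Group.IsSolvable (Subgroup.centralizer ({x} : Set H)) → x ∈ Subgroup.center H

theorem exists_perfect_le {G : Type*} [Group G] [Finite G] (Y : Subgroup G)
    (h : ¬ Group.IsSolvable Y) : ∃ L ≤ Y, ⁅L, L⁆ = L ∧ ¬ Group.IsSolvable L := by
  obtain ⟨L, hL⟩ := (Set.toFinite {L : Subgroup G | L ≤ Y ∧ ¬ Group.IsSolvable L}).exists_minimal
    ⟨Y, le_rfl, h⟩
  refine ⟨L, hL.1.1, ?_, hL.1.2⟩
  by_contra hne
  have hlt : ⁅L, L⁆ ≤ L := Subgroup.commutator_le_self L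
  have hs : Group.IsSolvable ↥⁅L, L⁆ := by
    by_contra hs
    exact hne (le_antisymm hlt (hL.2 ⟨hlt.trans hL.1.1, hs⟩ hlt))
  refine hL.1.2 ?_
  haveI := hs
  refine Group.isSolvable_of_ker_le_range (Subgroup.inclusion hlt) (Abelianization.of (G := L)) ?_
  intro x hx
  rw [Abelianization.ker_of] at hx
  have : (x : G) ∈ (_root_.commutator L).map L.subtype := ⟨x, hx, rfl⟩
  rw [Subgroup.map_subtype_commutator] at this
  exact ⟨⟨x, this⟩, rfl⟩

theorem not_isSolvable_of_map {G T : Type*} [Group G] [Group T] (φ : G →* T) (Y : Subgroup G)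
    (S : Subgroup T) (hmap : Y.map φ = S) (hS : ¬ Group.IsSolvable S) : ¬ Group.IsSolvable Y := by
  intro h
  haveI := h
  refine hS (Group.isSolvable_of_surjective (f := (φ.comp Y.subtype).codRestrict S (fun y => ?_)) ?_)
  · rw [← hmap]
    exact ⟨y, y.2, rfl⟩
  · rintro ⟨s, hs⟩
    rw [← hmap] at hs
    obtain ⟨y, hy, rfl⟩ := hs
    exact ⟨⟨y, hy⟩, rfl⟩

/-- a perfect subgroup centralising `k` modulo the center centralises `k` -/
theorem commute_of_perfect {H : Type*} [Group H] {L : Subgroup H} (hL : ⁅L, L⁆ = L) (k : H)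
    (h : ∀ l ∈ L, k⁻¹ * l * k * l⁻¹ ∈ center H) : ∀ l ∈ L, l * k = k * l := by
  let f : L →* center H :=
    { toFun := fun l => ⟨k⁻¹ * l * k * (l : H)⁻¹, h l l.2⟩
      map_one' := Subtype.ext (by simp)
      map_mul' := fun a b => Subtype.ext (by
        have hb := mem_center_iff.1 (h b b.2) (a : H)
        simp only [Subgroup.coe_mul, mul_inv_rev]
        calc k⁻¹ * ((a : H) * b) * k * ((b : H)⁻¹ * (a : H)⁻¹)
            = k⁻¹ * a * k * (k⁻¹ * b * k * (b : H)⁻¹) * (a : H)⁻¹ := by group
          _ = k⁻¹ * a * k * ((a : H)⁻¹ * a * (k⁻¹ * b * k * (b : H)⁻¹)) * (a : H)⁻¹ := by group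
          _ = k⁻¹ * a * k * (a : H)⁻¹ * (a * (k⁻¹ * b * k * (b : H)⁻¹)) * (a : H)⁻¹ := by group
          _ = k⁻¹ * a * k * (a : H)⁻¹ * ((k⁻¹ * b * k * (b : H)⁻¹) * a) * (a : H)⁻¹ := by rw [hb]
          _ = k⁻¹ * a * k * (a : H)⁻¹ * (k⁻¹ * b * k * (b : H)⁻¹) := by group) }
  intro l hl
  have htop : _root_.commutator L = ⊤ := by
    apply Subgroup.map_injective L.subtype_injective
    rw [Subgroup.map_subtype_commutator, hL, ← MonoidHom.range_eq_map, Subgroup.range_subtype]
  letI : CommGroup (center H) :=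
    { (inferInstance : Group (center H)) with
      mul_comm := fun a b => Subtype.ext (mem_center_iff.1 b.2 (a : H)) }
  have := Abelianization.commutator_subset_ker f (htop ▸ Subgroup.mem_top (⟨l, hl⟩ : L))
  rw [MonoidHom.mem_ker] at this
  have h1 : k⁻¹ * l * k * l⁻¹ = 1 := congrArg (fun z : center H => (z : H)) this
  rw [mul_inv_eq_one, mul_assoc, inv_mul_eq_iff_eq_mul] at h1
  exact h1

theorem isPElement_of_pow_mem {H : Type*} [Group H] {p : ℕ} (hp : p.Prime) {K : Subgroup H}
    (hK : IsPGroup p K) (x : H) (j : ℕ) (hx : x ^ p ^ j ∈ K) : ∃ k : ℕ, orderOf x = p ^ k := by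
  obtain ⟨i, hi⟩ := hK ⟨_, hx⟩
  have h1 : x ^ p ^ (j + i) = 1 := by
    rw [pow_add, pow_mul]
    exact congrArg Subtype.val hi
  obtain ⟨k, -, hk⟩ := (Nat.dvd_prime_pow hp).1 (orderOf_dvd_of_pow_eq_one h1)
  exact ⟨k, hk⟩

section Abstract

variable {H T : Type u} [Group H] [Finite H] [Group T] {p : ℕ}

theorem false_of_lift (hH : Hyp p H) (φ : H →* T) (hφ : Function.Surjective φ)
    (hT : center T = ⊥) {x : H} (hxp : ∃ k : ℕ, orderOf x = p ^ k) (hx : φ x ≠ 1)
    {A : Subgroup H} (hA : ¬ Group.IsSolvable A) (hcomm : ∀ a ∈ A, a * x = x * a) : False := by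
  have hns : ¬ Group.IsSolvable (Subgroup.centralizer ({x} : Set H)) := fun h =>
    hA (Coprime.isSolvable_of_le (fun a ha => Subgroup.mem_centralizer_iff.2 (by
      rintro y rfl; exact (hcomm a ha).symm)) h)
  refine hx ?_
  rw [← Subgroup.mem_bot, ← hT, Subgroup.mem_center_iff]
  intro t
  obtain ⟨y, rfl⟩ := hφ t
  rw [← map_mul, ← map_mul, Subgroup.mem_center_iff.1 (hH x hxp hns) y]

/-- the kernel is a central `p`-group -/
theorem false_of_central (hp : p.Prime) (hH : Hyp p H) (φ : H →* T) (hφ : Function.Surjective φ)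
    (hT : center T = ⊥) (hK : IsPGroup p φ.ker) (hKc : φ.ker ≤ center H) (c : T) (hc : c ≠ 1)
    (j : ℕ) (hcp : c ^ p ^ j = 1) (S : Subgroup T) (hS : ¬ Group.IsSolvable S)
    (hcomm : ∀ s ∈ S, s * c = c * s) : False := by
  obtain ⟨x, rfl⟩ := hφ c
  obtain ⟨L, hLY, hL, hLns⟩ := exists_perfect_le (S.comap φ)
    (not_isSolvable_of_map φ _ S (map_comap_eq_self_of_surjective hφ S) hS)
  refine false_of_lift hH φ hφ hT
    (isPElement_of_pow_mem hp hK x j (by rw [MonoidHom.mem_ker, map_pow, hcp])) hc hLns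
    (commute_of_perfect hL x fun l hl => hKc ?_)
  rw [MonoidHom.mem_ker, map_mul, map_mul, map_mul, map_inv, map_inv,
    mul_assoc _ (φ l), hcomm (φ l) (hLY hl)]
  group

/-- the case in which the commuting nonsolvable subgroup has order prime to `p` -/
theorem false_of_coprime (hp : p.Prime) (hH : Hyp p H) (φ : H →* T) (hφ : Function.Surjective φ)
    (hT : center T = ⊥) (hK : IsPGroup p φ.ker) (c : T) (hc : c ≠ 1)
    (j : ℕ) (hcp : c ^ p ^ j = 1) (S : Subgroup T) (hS : ¬ Group.IsSolvable S)
    (hcop : ¬ p ∣ Nat.card S) (hcomm : ∀ s ∈ S, s * c = c * s) : False := by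
  haveI := Fact.mk hp
  obtain ⟨x, rfl⟩ := hφ c
  set Y : Subgroup H := S.comap φ with hY
  have hmap : Y.map φ = S := map_comap_eq_self_of_surjective hφ S
  let f : Y →* S := φ.subgroupComap S
  have hf : Function.Surjective f := fun s => by
    obtain ⟨y, hy⟩ := hφ s
    exact ⟨⟨y, by show φ y ∈ S; rw [hy]; exact s.2⟩, Subtype.ext hy⟩
  obtain ⟨k, hk⟩ := IsPGroup.iff_card.1 hK
  have hcardN : Nat.card f.ker ∣ p ^ k := by
    rw [← hk]
    exact Subgroup.card_dvd_of_injective
      (({ toFun := fun y => ⟨((y : Y) : H), by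
            have := y.2
            rw [MonoidHom.mem_ker] at this ⊢
            exact congrArg Subtype.val this⟩
          map_one' := rfl
          map_mul' := fun _ _ => rfl } : f.ker →* φ.ker))
      (fun a b hab => Subtype.ext (Subtype.ext (congrArg (fun z : φ.ker => (z : H)) hab)))
  have hidx : f.ker.index = Nat.card S := by
    rw [Subgroup.index_ker, MonoidHom.range_eq_top.2 hf, Subgroup.card_top]
  have hco : (Nat.card f.ker).Coprime f.ker.index := by
    rw [hidx]
    exact ((hp.coprime_iff_not_dvd.2 hcop).pow_left k).coprime_dvd_left hcardN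
  obtain ⟨C, hC⟩ := Subgroup.exists_right_complement'_of_coprime hco
  set A : Subgroup H := C.map Y.subtype with hA
  have hAmap : A.map φ = S := by
    refine le_antisymm ?_ fun s hs => ?_
    · rw [hA, Subgroup.map_map]
      rintro _ ⟨y, -, rfl⟩
      exact y.2
    · obtain ⟨y, hy⟩ := hf ⟨s, hs⟩
      obtain ⟨n, hn, a, ha, rfl⟩ : ∃ n ∈ f.ker, ∃ a ∈ C, n * a = y := by
        obtain ⟨⟨⟨n, hn⟩, ⟨a, ha⟩⟩, h⟩ := hC.2 y
        exact ⟨n, hn, a, ha, h⟩
      rw [map_mul, MonoidHom.mem_ker.1 hn, one_mul] at hy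
      exact ⟨a, ⟨a, ha, rfl⟩, congrArg Subtype.val hy⟩
  have hAns : ¬ Group.IsSolvable A := not_isSolvable_of_map φ A S hAmap hS
  have hcardA : (Nat.card A).Coprime (Nat.card φ.ker) := by
    rw [hA, Nat.card_congr (C.equivMapOfInjective _ Y.subtype_injective).toEquiv.symm, hk]
    have h1 : Nat.card C = Nat.card S := by
      rw [← hidx, hC.symm.index_eq_card]
    rw [h1]
    exact (hp.coprime_iff_not_dvd.2 hcop).symm.pow_right k
  obtain ⟨m, hm, hxm⟩ := Coprime.exists_mul_mem_centralizer (A := A) (N := φ.ker) (k := x)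
    (by rw [normalizer_eq_top]; exact le_top) hcardA
    (Or.inr (by haveI := hK.isNilpotent; infer_instance)) (fun a ha => by
      rw [MonoidHom.mem_ker, map_mul, map_mul, map_mul, map_inv, map_inv,
        mul_assoc _ (φ a), hcomm (φ a) (hAmap ▸ mem_map_of_mem φ ha)]
      group)
  have hφxm : φ (x * m) = φ x := by rw [map_mul, MonoidHom.mem_ker.1 hm, mul_one]
  exact false_of_lift hH φ hφ hT
    (isPElement_of_pow_mem hp hK (x * m) j (by rw [MonoidHom.mem_ker, map_pow, hφxm, hcp]))
    (hφxm ▸ hc) hAns (fun a ha => Subgroup.mem_centralizer_iff.1 hxm a ha)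

end Abstract

/-- all exponent-`p` modules without vectors fixed by nonsolvable subgroups are trivial -/
def ModuleProp (p n : ℕ) : Prop :=
  ∀ (M : Type u) [AddCommGroup M] [Finite M] [DistribMulAction (Alt n) M],
    (∀ m : M, p • m = 0) → NoFix n M → ∀ v : M, v = 0

/-- the kernel is a noncentral `p`-group -/
theorem false_of_noncentral {H : Type u} [Group H] [Finite H] {p n : ℕ} (hp : p.Prime)
    (hM : ModuleProp.{u} p n) (hH : Hyp p H) (φ : H →* Alt n) (hφ : Function.Surjective φ)
    (hK : IsPGroup p φ.ker) (hKc : ¬ φ.ker ≤ center H) : False := by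
  haveI := Fact.mk hp
  set Z : Subgroup H := φ.ker ⊓ center H with hZ
  haveI : Z.Normal := Subgroup.normal_inf_normal _ _
  set φ' : H ⧸ Z →* Alt n := QuotientGroup.lift Z φ (fun z hz => hz.1) with hφ'
  have hφ's : Function.Surjective φ' := fun t => by
    obtain ⟨y, rfl⟩ := hφ t
    exact ⟨y, rfl⟩
  have hker : φ'.ker = φ.ker.map (QuotientGroup.mk' Z) := QuotientGroup.ker_lift Z φ _
  set K' : Subgroup (H ⧸ Z) := φ'.ker with hK'
  have hK'p : IsPGroup p K' := hker ▸ hK.map _
  haveI : Nontrivial K' := by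
    rw [Subgroup.nontrivial_iff_ne_bot, hker, Ne, Subgroup.map_eq_bot_iff, QuotientGroup.ker_mk']
    exact fun h => hKc (h.trans inf_le_right)
  let E : Subgroup (H ⧸ Z) :=
    { carrier := {k | k ∈ K' ∧ (∀ y ∈ K', k * y = y * k) ∧ k ^ p = 1}
      one_mem' := ⟨one_mem _, by simp, one_pow _⟩
      mul_mem' := fun {a b} ha hb => ⟨mul_mem ha.1 hb.1, fun y hy => by
          rw [mul_assoc, hb.2.1 y hy, ← mul_assoc, ha.2.1 y hy, mul_assoc], by
          rw [Commute.mul_pow (ha.2.1 b hb.1), ha.2.2, hb.2.2, mul_one]⟩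
      inv_mem' := fun {a} ha => ⟨inv_mem ha.1, fun y hy =>
          (Commute.inv_left (ha.2.1 y hy : Commute a y)).eq, by rw [inv_pow, ha.2.2, inv_one]⟩ }
  haveI hEn : E.Normal := by
    refine ⟨fun a ha g => ⟨(MonoidHom.normal_ker φ').conj_mem a ha.1 g, fun y hy => ?_, ?_⟩⟩
    · have hy' : g⁻¹ * y * g ∈ K' := by
        have h1 := (MonoidHom.normal_ker φ').conj_mem y hy g⁻¹
        rwa [inv_inv] at h1
      calc g * a * g⁻¹ * y = g * (a * (g⁻¹ * y * g)) * g⁻¹ := by group
        _ = g * ((g⁻¹ * y * g) * a) * g⁻¹ := by rw [ha.2.1 _ hy']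
        _ = y * (g * a * g⁻¹) := by group
    · rw [conj_pow, ha.2.2]; simp
  haveI : IsMulCommutative E := ⟨⟨fun a b => Subtype.ext (a.2.2.1 b b.2.1)⟩⟩
  letI : CommGroup E :=
    { (inferInstance : Group E) with mul_comm := fun a b => Subtype.ext (a.2.2.1 b b.2.1) }
  let cj : H ⧸ Z →* MulAut E := MulAut.conjNormal
  have hcj : φ'.ker ≤ cj.ker := by
    intro k hk
    rw [MonoidHom.mem_ker]
    ext a
    show k * (a : H ⧸ Z) * k⁻¹ = a
    rw [← a.2.2.1 k hk]
    group
  let α : Alt n →* MulAut E := φ'.liftOfSurjective hφ's ⟨cj, hcj⟩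
  have hα : ∀ y, α (φ' y) = cj y := fun y =>
    MonoidHom.liftOfRightInverse_comp_apply φ' _ _ ⟨cj, hcj⟩ y
  letI : DistribMulAction (Alt n) (Additive E) :=
    { smul := fun g m => Additive.ofMul (α g (Additive.toMul m))
      one_smul := fun m => by
        show Additive.ofMul (α 1 (Additive.toMul m)) = m
        rw [map_one]; rfl
      mul_smul := fun g h m => by
        show Additive.ofMul (α (g * h) (Additive.toMul m)) =
          Additive.ofMul (α g (α h (Additive.toMul m)))
        rw [map_mul]; rfl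
      smul_zero := fun g => by
        show Additive.ofMul (α g 1) = 0
        rw [map_one]; rfl
      smul_add := fun g a b => by
        show Additive.ofMul (α g (Additive.toMul a * Additive.toMul b)) = _
        rw [map_mul]; rfl }
  have hzero := hM (Additive E) (fun m => by
    apply Additive.toMul.injective
    rw [toMul_nsmul, toMul_zero]
    exact Subtype.ext (by rw [SubgroupClass.coe_pow]; exact (Additive.toMul m).2.2.2)) ?_
  · haveI := hK'p.center_nontrivial
    obtain ⟨a, ha⟩ := exists_ne (1 : Subgroup.center K')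
    have hdvd : p ∣ Nat.card (Subgroup.center K') := by
      obtain ⟨k, hk⟩ := IsPGroup.iff_card.1 (hK'p.to_subgroup (Subgroup.center K'))
      rcases Nat.eq_zero_or_pos k with rfl | hk0
      · rw [pow_zero, Nat.card_eq_one_iff_unique] at hk
        exact absurd (@Subsingleton.elim _ hk.1 a 1) ha
      · rw [hk]; exact dvd_pow_self p (by omega)
    obtain ⟨b, hb⟩ := exists_prime_orderOf_dvd_card' p hdvd
    have hbE : ((b : K') : H ⧸ Z) ∈ E := by
      refine ⟨(b : K').2, fun y hy => ?_, ?_⟩
      · exact congrArg (fun z : K' => (z : H ⧸ Z))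
          ((Subgroup.mem_center_iff.1 b.2 ⟨y, hy⟩).symm)
      · have := pow_orderOf_eq_one b
        rw [hb] at this
        exact congrArg (fun z : Subgroup.center K' => ((z : K') : H ⧸ Z)) this
    have h1 := hzero (Additive.ofMul ⟨_, hbE⟩)
    have h2 : ((b : K') : H ⧸ Z) = 1 := congrArg (fun m => ((Additive.toMul m : E) : H ⧸ Z)) h1
    have h3 : b = 1 := Subtype.ext (Subtype.ext h2)
    rw [h3, orderOf_one] at hb
    exact hp.one_lt.ne hb
  intro S hS v hv
  obtain ⟨L, hLY, hL, hLns⟩ := exists_perfect_le (S.comap φ)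
    (not_isSolvable_of_map φ _ S (map_comap_eq_self_of_surjective hφ S) hS)
  obtain ⟨k, hk⟩ := QuotientGroup.mk'_surjective Z ((Additive.toMul v : E) : H ⧸ Z)
  have hkK : k ∈ φ.ker := by
    have h1 : (QuotientGroup.mk' Z k) ∈ φ'.ker := hk ▸ (Additive.toMul v).2.1
    exact h1
  have hcomm := commute_of_perfect hL k (fun l hl => by
    have h1 : (φ l) • v = v := hv _ (hLY hl)
    have h2 : cj (QuotientGroup.mk' Z l) (Additive.toMul v) = Additive.toMul v := by
      rw [← hα]; exact congrArg Additive.toMul h1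
    have h3 : QuotientGroup.mk' Z l * QuotientGroup.mk' Z k * (QuotientGroup.mk' Z l)⁻¹ =
        QuotientGroup.mk' Z k := by
      rw [hk]; exact congrArg (fun z : E => (z : H ⧸ Z)) h2
    have h4 : k⁻¹ * l * k * l⁻¹ ∈ Z := by
      rw [← QuotientGroup.eq_one_iff]
      show QuotientGroup.mk' Z (k⁻¹ * l * k * l⁻¹) = 1
      rw [map_mul, map_mul, map_mul, map_inv, map_inv]
      rw [mul_assoc _ (QuotientGroup.mk' Z k)]
      rw [mul_assoc, ← mul_assoc (QuotientGroup.mk' Z l)]
      rw [h3, inv_mul_cancel]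
    exact h4.2)
  have hns : ¬ Group.IsSolvable (Subgroup.centralizer ({k} : Set H)) := fun h =>
    hLns (Coprime.isSolvable_of_le (fun a ha => Subgroup.mem_centralizer_iff.2 (by
      rintro y rfl; exact (hcomm a ha).symm)) h)
  have hkc := hH k (isPElement_of_pow_mem hp hK k 0 (by simpa using hkK)) hns
  apply Additive.toMul.injective
  apply Subtype.ext
  rw [← hk]
  exact (QuotientGroup.eq_one_iff k).2 ⟨hkK, hkc⟩

/-- inductive removal of the prime-to-`p` part of a nilpotent kernel -/
theorem false_of_nilpotent {p : ℕ} (hp : p.Prime) {T : Type u} [Group T]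
    (base : ∀ (H : Type u) [Group H] [Finite H] (φ : H →* T), Hyp p H → Function.Surjective φ →
      IsPGroup p φ.ker → False) :
    ∀ (N : ℕ) (H : Type u) [Group H] [Finite H] (φ : H →* T), Nat.card H ≤ N → Hyp p H →
      Function.Surjective φ → Group.IsNilpotent φ.ker → False := by
  intro N
  induction N with
  | zero =>
    intro H _ _ φ hN
    have := Nat.card_pos (α := H)
    omega
  | succ N ih =>
    intro H _ _ φ hN hH hφ hnil
    by_cases hall : ∀ r : ℕ, r.Prime → r ∣ Nat.card φ.ker → r = p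
    · exact base H φ hH hφ
        (IsPGroup.of_card (Nat.eq_prime_pow_of_unique_prime_dvd Nat.card_pos.ne' fun h1 h2 =>
          hall _ h1 h2))
    push Not at hall
    obtain ⟨r, hr, hrd, hrp⟩ := hall
    haveI := Fact.mk hr
    haveI := hnil
    obtain ⟨P⟩ := (inferInstance : Nonempty (Sylow r φ.ker))
    have hPn : (P : Subgroup φ.ker).Normal :=
      (((Group.isNilpotent_of_finite_tfae (G := φ.ker)).out 0 3 rfl rfl).1 hnil) r inferInstance P
    haveI : (P : Subgroup φ.ker).Characteristic := P.characteristic_of_normal hPn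
    set R : Subgroup H := (P : Subgroup φ.ker).map φ.ker.subtype with hR
    haveI : R.Normal := by rw [hR]; infer_instance
    have hRle : R ≤ φ.ker := Subgroup.map_subtype_le _
    have hRr : IsPGroup r R := by rw [hR]; exact P.2.map _
    have hRne : R ≠ ⊥ := by
      rw [hR, Ne, Subgroup.map_eq_bot_iff_of_injective _ φ.ker.subtype_injective]
      exact P.ne_bot_of_dvd_card hrd
    set φ' : H ⧸ R →* T := QuotientGroup.lift R φ hRle with hφ'
    have hφ's : Function.Surjective φ' := fun t => by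
      obtain ⟨y, rfl⟩ := hφ t
      exact ⟨y, rfl⟩
    refine ih (H ⧸ R) φ' ?_ ?_ hφ's ?_
    · have h1 := Subgroup.card_eq_card_quotient_mul_card_subgroup R
      have h2 : 1 < Nat.card R := (Subgroup.one_lt_card_iff_ne_bot R).2 hRne
      have h3 : 0 < Nat.card (H ⧸ R) := Nat.card_pos
      have h4 : Nat.card (H ⧸ R) * 2 ≤ Nat.card H := by rw [h1]; exact Nat.mul_le_mul_left _ h2
      omega
    · intro xb hxb hns
      obtain ⟨k, hk⟩ := hxb
      obtain ⟨i, hi⟩ := IsPGroup.iff_card.1 hRr
      have hcop : (orderOf xb).Coprime (Nat.card R) := by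
        rw [hk, hi]
        exact (Nat.coprime_primes hp hr).2 hrp.symm |>.pow k i
      obtain ⟨x, hx, hxo⟩ := Coprime.exists_orderOf_lift R xb hcop
      subst hx
      have hsurj : (Subgroup.centralizer ({x} : Set H)).map (QuotientGroup.mk' R) =
          Subgroup.centralizer ({(x : H ⧸ R)} : Set (H ⧸ R)) := by
        refine le_antisymm ?_ ?_
        · rintro _ ⟨g, hg, rfl⟩
          rw [Subgroup.mem_centralizer_singleton_iff]
          exact congrArg (QuotientGroup.mk' R) (Subgroup.mem_centralizer_singleton_iff.1 hg)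
        · intro gb hgb
          obtain ⟨g, rfl⟩ := QuotientGroup.mk'_surjective R gb
          obtain ⟨n, hn, hgn⟩ := Coprime.exists_mul_mem_centralizer (A := Subgroup.zpowers x)
            (N := R) (k := g) (by rw [normalizer_eq_top]; exact le_top)
            (by rw [Nat.card_zpowers, hxo]; exact hcop)
            (Or.inr (by haveI := hRr.isNilpotent; infer_instance)) (fun a ha => by
              obtain ⟨z, rfl⟩ := Subgroup.mem_zpowers_iff.1 ha
              rw [← QuotientGroup.eq_one_iff]
              have hc : Commute (g : H ⧸ R) (x : H ⧸ R) :=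
                (Subgroup.mem_centralizer_singleton_iff.1 hgb)
              rw [QuotientGroup.mk_mul, QuotientGroup.mk_mul, QuotientGroup.mk_mul,
                QuotientGroup.mk_inv, QuotientGroup.mk_inv, QuotientGroup.mk_zpow,
                mul_assoc _ ((x : H ⧸ R) ^ z), (hc.zpow_right z).symm.eq]
              group)
          refine ⟨g * n, ?_, ?_⟩
          · rw [SetLike.mem_coe, Subgroup.mem_centralizer_singleton_iff]
            exact (Subgroup.mem_centralizer_iff.1 hgn x (Subgroup.mem_zpowers x)).symm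
          · show QuotientGroup.mk' R (g * n) = QuotientGroup.mk' R g
            rw [map_mul, show QuotientGroup.mk' R n = 1 from (QuotientGroup.eq_one_iff n).2 hn,
              mul_one]
      have hxc := hH x ⟨k, by rw [hxo, hk]⟩ (not_isSolvable_of_map _ _ _ hsurj hns)
      rw [Subgroup.mem_center_iff]
      intro y
      obtain ⟨y, rfl⟩ := QuotientGroup.mk'_surjective R y
      exact congrArg (QuotientGroup.mk' R) (Subgroup.mem_center_iff.1 hxc y)
    · rw [hφ', QuotientGroup.ker_lift]
      haveI := hnil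
      exact nilpotent_of_surjective _ ((QuotientGroup.mk' R).subgroupMap_surjective φ.ker)

/-- a section `T` is covered by a group with nilpotent kernel -/
theorem exists_cover {G T : Type*} [Group G] [Finite G] [Group T] (K : Subgroup G)
    (ψ : K →* T) (hψ : Function.Surjective ψ) :
    ∃ H : Subgroup K, ∃ φ : H →* T, Function.Surjective φ ∧ Group.IsNilpotent φ.ker := by
  obtain ⟨H, hH⟩ := (Set.toFinite {H : Subgroup K | H.map ψ = ⊤}).exists_minimal
    ⟨⊤, Subgroup.map_top_of_surjective ψ hψ⟩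
  set φ : H →* T := ψ.comp H.subtype with hφdef
  have hφ : Function.Surjective φ := fun t => by
    have : t ∈ H.map ψ := by rw [hH.1]; exact Subgroup.mem_top t
    obtain ⟨y, hy, rfl⟩ := this
    exact ⟨⟨y, hy⟩, rfl⟩
  refine ⟨H, φ, hφ, ?_⟩
  have hle : φ.ker ≤ frattini H := by
    refine le_iInf₂ fun M hM => ?_
    by_contra hnot
    have htop : φ.ker ⊔ M = ⊤ := hM.2 _ (lt_of_le_of_ne le_sup_right (fun h => hnot (h ▸ le_sup_left)))
    have hmap : M.map φ = ⊤ := by
      rw [← Subgroup.map_top_of_surjective φ hφ, ← htop, Subgroup.map_sup,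
        (Subgroup.map_eq_bot_iff φ.ker).2 le_rfl, bot_sup_eq]
    have h2 : H ≤ M.map H.subtype := hH.2 (by
      show (M.map H.subtype).map ψ = ⊤
      rw [Subgroup.map_map, ← hφdef, hmap]) (Subgroup.map_subtype_le M)
    refine hM.1 (eq_top_iff.2 fun y _ => ?_)
    obtain ⟨z, hz, hzy⟩ := h2 y.2
    exact (H.subtype_injective hzy) ▸ hz
  haveI : Group.IsNilpotent (frattini H) := frattini_nilpotent
  exact Group.nilpotent_of_mulEquiv (Subgroup.subgroupOfEquivOfLe hle)

theorem hyp_subgroup {p : ℕ} {G : Type u} [Group G] (h : Hyp p G) (H : Subgroup G) : Hyp p H := by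
  intro x hx hns
  have h1 : ¬ Group.IsSolvable (Subgroup.centralizer ({(x : G)} : Set G)) := by
    intro hs
    haveI := hs
    refine hns (Group.isSolvable_of_isSolvable_injective
      (f := (H.subtype.comp (Subgroup.centralizer ({x} : Set H)).subtype).codRestrict
        (Subgroup.centralizer ({(x : G)} : Set G)) (fun y => ?_)) ?_)
    · rw [Subgroup.mem_centralizer_singleton_iff]
      exact congrArg Subtype.val (Subgroup.mem_centralizer_singleton_iff.1 y.2)
    · intro a b hab
      have := congrArg Subtype.val hab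
      exact Subtype.ext (Subtype.ext this)
  rw [Subgroup.mem_center_iff]
  intro y
  exact Subtype.ext (Subgroup.mem_center_iff.1 (h x (by simpa using hx) h1) y)

end Cfsg.Agent.Lib.FixLadder
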